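import Cfsg.Agent.Chev.OrthInvol.Classes
import Mathlib.LinearAlgebra.Matrix.Rank

/-!
The rank of `g - 1` for a product of root elements, from bit vectors over two elements.
-/

set_option autoImplicit false
set_option maxRecDepth 100000
set_option maxHeartbeats 1000000

namespace Cfsg.Agent.Chev

open Cfsg.Lie

universe u

namespace OrthInvol

/-- A bit, by shifting. -/
noncomputable def tb (v c : ℕ) : Bool := Nat.beq (Nat.mod (Nat.shiftRight v c) 2) 1

theorem tb_eq (v c : ℕ) : tb v c = Nat.testBit v c := by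
  rw [Nat.testBit_eq_decide_div_mod_eq, Bool.eq_iff_iff, tb, nbeq_iff, decide_eq_true_iff,
    show Nat.shiftRight v c = v >>> c from rfl, Nat.shiftRight_eq_div_pow]
  rfl

/-- A sum of bit vectors below a bound. -/
noncomputable def xsum (f : ℕ → ℕ) (n : ℕ) : ℕ := Nat.rec 0 (fun m acc => Nat.xor acc (f m)) n

/-- A selection from a list of bit vectors. -/
noncomputable def xsel (sel : ℕ → Bool) : List ℕ → ℕ → ℕ :=
  List.rec (fun _ => 0) fun v _ ih k => Nat.xor (cond (sel k) v 0) (force (Nat.add k 1) ih)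

/-- The rows with an odd coefficient. -/
noncomputable def maskCol : List (ℕ × ℕ × ℤ) → ℕ :=
  List.rec 0 fun q _ acc => cond (zbeq (Int.emod q.2.2 2) 0) acc (Nat.xor acc (Nat.pow 2 q.1))

/-- A column of `x_r(1) - 1`. -/
noncomputable def ncol (D : ChevalleyDatum) (C : Cert) (r c : ℕ) : ℕ := maskCol (colOf D C.T r c)

/-- A sum over the set bits, from the top. -/
noncomputable def xbits (f : ℕ → ℕ) : ℕ → ℕ → ℕ :=
  Nat.rec (fun _ => 0) fun _ ih v =>
    cond (Nat.beq v 0) 0 (force (Nat.log2 v) fun p => Nat.xor (f p) (ih (Nat.xor v (Nat.pow 2 p))))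

/-- The action of a root element on bit vectors. -/
noncomputable def app1 (D : ChevalleyDatum) (C : Cert) (r v : ℕ) : ℕ :=
  Nat.xor v (cond (Nat.blt v (Nat.pow 2 (Nat.add D.rank D.nroots)))
    (xbits (ncol D C r) (Nat.add D.rank D.nroots) v)
    (xsum (fun c => cond (tb v c) (ncol D C r c) 0) (Nat.add D.rank D.nroots)))

/-- A column of a product of root elements. -/
noncomputable def colW (D : ChevalleyDatum) (C : Cert) : List ℕ → ℕ → ℕ :=
  List.rec (fun c => Nat.pow 2 c) fun r _ ih c => app1 D C r (ih c)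

/-- A vector rebuilt from its bits at the pivots. -/
noncomputable def xpiv (v : ℕ) : List (ℕ × ℕ × ℕ) → ℕ :=
  List.rec 0 fun b _ acc => Nat.xor (cond (tb v b.2.1) b.1 0) acc

/-- Each echelon vector has only its own pivot. -/
noncomputable def pivOk : List (ℕ × ℕ × ℕ) → Bool :=
  List.rec true fun b l ih =>
    tb b.1 b.2.1 && l.all (fun b' => not (tb b'.1 b.2.1) && not (tb b.1 b'.2.1)) && ih

/-- A test on the indexed entries of a list. -/
noncomputable def allIdx (f : ℕ → ℕ → Bool) : List ℕ → ℕ → Bool :=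
  List.rec (fun _ => true) fun v _ ih k => f k v && force (Nat.add k 1) ih

/-- The certificate for the rank: columns, and echelon vectors with pivots and combinations. -/
noncomputable def chkRank (D : ChevalleyDatum) (C : Cert) (L G : List ℕ) (B : List (ℕ × ℕ × ℕ)) :
    Bool :=
  Nat.beq G.length (Nat.add D.rank D.nroots) &&
  L.all (fun r => Nat.blt r D.nroots) &&
  allIdx (fun c v => Nat.beq v (Nat.xor (colW D C L c) (Nat.pow 2 c))) G 0 &&
  G.all (fun v => Nat.beq v (xpiv v B)) &&
  B.all (fun b => Nat.beq b.1 (xsel (tb b.2.2) G 0) &&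
    Nat.blt b.2.1 (Nat.add D.rank D.nroots)) &&
  pivOk B

theorem allIdx_spec {f : ℕ → ℕ → Bool} : ∀ {l : List ℕ} {k : ℕ}, allIdx f l k = true →
    ∀ i < l.length, f (k + i) (l.getD i 0) = true
  | [], _, _, i, hi => absurd hi (Nat.not_lt_zero i)
  | v :: l, k, h, i, hi => by
    have h0 : (f k v && force (k + 1) (allIdx f l)) = true := h
    have h' : (f k v && allIdx f l (k + 1)) = true := by rwa [force_eq] at h0
    rw [Bool.and_eq_true] at h'
    cases i with
    | zero => exact h'.1
    | succ i =>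
      have := allIdx_spec h'.2 i (Nat.lt_of_succ_lt_succ hi)
      rw [show k + 1 + i = k + (i + 1) by omega] at this
      exact this

theorem pivOk_spec : ∀ {B : List (ℕ × ℕ × ℕ)}, pivOk B = true →
    ∀ i k : Fin B.length, (B.getD k (0, 0, 0)).1.testBit (B.getD i (0, 0, 0)).2.1 = decide (i = k)
  | [], _, i, _ => i.elim0
  | b :: l, h, i, k => by
    have h' : (tb b.1 b.2.1 && l.all (fun b' => not (tb b'.1 b.2.1) && not (tb b.1 b'.2.1)) &&
        pivOk l) = true := h
    simp only [Bool.and_eq_true, List.all_eq_true, Bool.not_eq_true', tb_eq] at h'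
    obtain ⟨⟨h1, h2⟩, h3⟩ := h'
    have hmem : ∀ j : Fin l.length, l.getD j (0, 0, 0) ∈ l := fun j => by simp
    cases i using Fin.cases with
    | zero =>
      cases k using Fin.cases with
      | zero => simpa using h1
      | succ k => simpa [(Fin.succ_ne_zero k).symm] using (h2 _ (hmem k)).1
    | succ i =>
      cases k using Fin.cases with
      | zero => simpa [Fin.succ_ne_zero i] using (h2 _ (hmem i)).2
      | succ k => simpa using pivOk_spec h3 i k

variable {D : ChevalleyDatum} {F : Type u} [Field F] [CharP F 2]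

/-- A bit as a field element. -/
def bitF (F : Type u) [Field F] (v i : ℕ) : F := cond (Nat.testBit v i) 1 0

theorem bitF_xor (a b i : ℕ) : bitF F (Nat.xor a b) i = bitF F a i + bitF F b i := by
  rw [bitF, bitF, bitF, show Nat.xor a b = a ^^^ b from rfl, Nat.testBit_xor]
  cases Nat.testBit a i <;> cases Nat.testBit b i <;> simp [CharTwo.add_self_eq_zero]

theorem bitF_zero (i : ℕ) : bitF F 0 i = 0 := by simp [bitF]

theorem bitF_two_pow (j i : ℕ) : bitF F (Nat.pow 2 j) i = if j = i then 1 else 0 := by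
  rw [bitF, show Nat.pow 2 j = 2 ^ j from rfl, Nat.testBit_two_pow]
  by_cases h : j = i <;> simp [h]

theorem bitF_cond (b : Bool) (v i : ℕ) : bitF F (cond b v 0) i = cond b (1 : F) 0 * bitF F v i := by
  cases b <;> simp [bitF_zero]

theorem bitF_xsum (f : ℕ → ℕ) (i : ℕ) : ∀ n, bitF F (xsum f n) i = ∑ m : Fin n, bitF F (f m) i
  | 0 => by simp [xsum, bitF_zero]
  | n + 1 => by
    show bitF F (Nat.xor (xsum f n) (f n)) i = _
    rw [bitF_xor, bitF_xsum f i n, Fin.sum_univ_castSucc]
    simp

theorem bitF_xsel (sel : ℕ → Bool) (i : ℕ) : ∀ (l : List ℕ) (k : ℕ),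
    bitF F (xsel sel l k) i = ∑ m : Fin l.length, cond (sel (k + m)) (1 : F) 0 * bitF F (l.getD m 0) i
  | [], k => by simp [xsel, bitF_zero]
  | v :: l, k => by
    show bitF F (Nat.xor (cond (sel k) v 0) (force (k + 1) (xsel sel l))) i = _
    rw [force_eq]
    rw [bitF_xor, bitF_cond, bitF_xsel sel i l (k + 1)]
    simp only [List.length_cons, Fin.sum_univ_succ]
    congr 1
    refine Finset.sum_congr rfl fun m _ => ?_
    rw [Fin.val_succ, show k + 1 + (m : ℕ) = k + ((m : ℕ) + 1) by ring]
    simp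

theorem bitF_xpiv (v i : ℕ) : ∀ B : List (ℕ × ℕ × ℕ), bitF F (xpiv v B) i =
    ∑ m : Fin B.length, bitF F v (B.getD m (0, 0, 0)).2.1 * bitF F (B.getD m (0, 0, 0)).1 i
  | [] => by simp [xpiv, bitF_zero]
  | b :: B => by
    show bitF F (Nat.xor (cond (tb v b.2.1) b.1 0) (xpiv v B)) i = _
    rw [bitF_xor, bitF_cond, bitF_xpiv v i B, tb_eq]
    simp only [List.length_cons, Fin.sum_univ_succ]
    rfl

theorem bitF_xbits (f : ℕ → ℕ) (i N : ℕ) : ∀ n, n ≤ N → ∀ v, v < 2 ^ n →
    bitF F (xbits f n v) i = ∑ m : Fin N, bitF F (cond (Nat.testBit v m) (f m) 0) i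
  | 0, _, v, hv => by
    obtain rfl : v = 0 := by simpa using hv
    simp [xbits, bitF_zero]
  | n + 1, hn, v, hv => by
    show bitF F (cond (Nat.beq v 0) 0 (force (Nat.log2 v) fun p =>
      Nat.xor (f p) (xbits f n (Nat.xor v (Nat.pow 2 p))))) i = _
    cases h0 : Nat.beq v 0
    · have hv0 : v ≠ 0 := nbeq_false_iff.1 h0
      rw [cond_false, force_eq, bitF_xor]
      obtain ⟨p, hp⟩ : ∃ p, p = Nat.log2 v := ⟨_, rfl⟩
      rw [← hp]
      have hpl : 2 ^ p ≤ v := by rw [hp]; exact Nat.log2_self_le hv0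
      have hpu : v < 2 ^ (p + 1) := by rw [hp]; exact Nat.lt_log2_self
      have hpn : p ≤ n := by
        by_contra h
        have h2 := Nat.pow_le_pow_right (show 2 > 0 by norm_num) (show n + 1 ≤ p by omega)
        omega
      have hbit : ∀ m, Nat.testBit (Nat.xor v (Nat.pow 2 p)) m = ((Nat.testBit v m) ^^ decide (p = m)) := by
        intro m
        rw [show Nat.xor v (Nat.pow 2 p) = v ^^^ 2 ^ p from rfl, Nat.testBit_xor, Nat.testBit_two_pow]
      have htop : Nat.testBit v p = true := by
        rw [Nat.testBit_eq_decide_div_mod_eq, decide_eq_true_iff]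
        have : v / 2 ^ p = 1 := by
          rw [Nat.div_eq_iff (by positivity)]
          rw [pow_succ] at hpu
          omega
        rw [this]
      have hlt : Nat.xor v (Nat.pow 2 p) < 2 ^ n := by
        refine Nat.lt_pow_two_of_testBit _ fun m hm => ?_
        rw [hbit]
        rcases Nat.lt_or_eq_of_le (hpn.trans hm) with h | rfl
        · rw [Nat.testBit_lt_two_pow (lt_of_lt_of_le hpu (Nat.pow_le_pow_right (by norm_num) h)),
            decide_eq_false h.ne]
          rfl
        · rw [htop, decide_eq_true rfl]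
          rfl
      rw [bitF_xbits f i N n (by omega) _ hlt,
        ← Finset.add_sum_erase _ _ (Finset.mem_univ (⟨p, by omega⟩ : Fin N)),
        ← Finset.add_sum_erase (Finset.univ : Finset (Fin N)) (fun m => bitF F (cond (Nat.testBit v m) (f m) 0) i)
          (Finset.mem_univ (⟨p, by omega⟩ : Fin N))]
      simp only [hbit, htop, decide_true, Bool.xor_self, cond_false, cond_true, bitF_zero, zero_add]
      congr 1
      refine Finset.sum_congr rfl fun m hm => ?_
      have : p ≠ (m : ℕ) := fun e => (Finset.mem_erase.1 hm).1 (Fin.ext e.symm)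
      rw [decide_eq_false this, Bool.xor_false]
    · obtain rfl := nbeq_iff.1 h0
      simp [bitF_zero]

theorem colVal_mask (i : ℕ) : ∀ L : List (ℕ × ℕ × ℤ), colVal (1 : F) i L = bitF F (maskCol L) i
  | [] => by simp [colVal, maskCol, bitF_zero]
  | q :: L => by
    have e : maskCol (q :: L) =
        cond (zbeq (Int.emod q.2.2 2) 0) (maskCol L) (Nat.xor (maskCol L) (Nat.pow 2 q.1)) := rfl
    rw [colVal, colVal_mask i L, e, one_pow, mul_one]
    cases h : zbeq (Int.emod q.2.2 2) 0
    · have hq : ((q.2.2 : ℤ) : F) = 1 := by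
        rw [← Bool.not_eq_true, zbeq_iff] at h
        have h' : q.2.2 % 2 ≠ 0 := h
        have h0 : ((q.2.2 - 1 : ℤ) : F) = 0 :=
          (CharP.intCast_eq_zero_iff F 2 _).2 (Int.dvd_of_emod_eq_zero (by omega))
        push_cast at h0
        exact sub_eq_zero.1 h0
      rw [cond_false, bitF_xor, bitF_two_pow, hq, add_comm]
    · have hq : ((q.2.2 : ℤ) : F) = 0 :=
        (CharP.intCast_eq_zero_iff F 2 _).2 (Int.dvd_of_emod_eq_zero (zbeq_iff.1 h))
      simp [hq]

theorem sum_enc (g : ℕ → F) :
    ∑ c : Fin (D.rank + D.nroots), g c = ∑ j : D.Idx, g (enc D j) := by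
  refine (Fintype.sum_bijective (fun j : D.Idx => (⟨enc D j, enc_lt D j⟩ : Fin (D.rank + D.nroots)))
    ⟨fun a b e => enc_injective D (congrArg Fin.val e), fun c => ?_⟩ _ _ fun j => rfl).symm
  obtain ⟨j, hj⟩ := exists_enc D c.2
  exact ⟨j, Fin.ext hj⟩

variable (hF : Facts.{u} D) {C : Cert} (hC : Checks D C)

include hC in
theorem colW_spec : ∀ (L : List ℕ), (∀ r ∈ L, r < D.nroots) → ∀ i j : D.Idx,
    ((XL hF L : GL D.Idx F) : Matrix D.Idx D.Idx F) i j =
      bitF F (colW D C L (enc D j)) (enc D i)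
  | [], _, i, j => by
    simp only [XL, wordG, List.map_nil, List.prod_nil, Units.val_one, Matrix.one_apply]
    show _ = bitF F (Nat.pow 2 (enc D j)) (enc D i)
    rw [bitF_two_pow]
    by_cases h : i = j
    · subst h; simp
    · rw [if_neg h, if_neg fun e => h (enc_injective D e).symm]
  | r :: L, h, i, j => by
    have hr := h r (List.mem_cons_self ..)
    have ih := colW_spec L fun s hs => h s (List.mem_cons_of_mem _ hs)
    have e : XL hF (r :: L) (F := F) = xG hF r 1 * XL hF L := by simp [XL, wordG_cons]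
    have ec : colW D C (r :: L) (enc D j) = app1 D C r (colW D C L (enc D j)) := by
      rfl
    have hap : bitF F (app1 D C r (colW D C L (enc D j))) (enc D i) =
        bitF F (colW D C L (enc D j)) (enc D i) + ∑ c : Fin (D.rank + D.nroots),
          bitF F (cond (Nat.testBit (colW D C L (enc D j)) c) (ncol D C r c) 0) (enc D i) := by
      rw [app1, bitF_xor]
      cases hb : Nat.blt (colW D C L (enc D j)) (Nat.pow 2 (Nat.add D.rank D.nroots))
      · rw [cond_false, bitF_xsum]
        simp only [tb_eq]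
        rfl
      · rw [cond_true, show Nat.add D.rank D.nroots = D.rank + D.nroots from rfl,
          bitF_xbits (ncol D C r) _ (D.rank + D.nroots) _ le_rfl _ (nblt_iff.1 hb)]
    rw [e, Units.val_mul, Matrix.mul_apply, ec, hap]
    show _ = _ + ∑ c : Fin (D.rank + D.nroots),
      bitF F (cond (Nat.testBit (colW D C L (enc D j)) c) (ncol D C r c) 0) (enc D i)
    rw [sum_enc (D := D) fun c =>
      bitF F (cond (Nat.testBit (colW D C L (enc D j)) c) (ncol D C r c) 0) (enc D i)]
    have hk : ∀ k : D.Idx, (D.x F r 1) i k * ((XL hF L : GL D.Idx F) : Matrix D.Idx D.Idx F) k j =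
        (if i = k then bitF F (colW D C L (enc D j)) (enc D i) else 0) +
          bitF F (cond (Nat.testBit (colW D C L (enc D j)) (enc D k)) (ncol D C r (enc D k)) 0)
            (enc D i) := by
      intro k
      rw [x_apply hC.tab F hr, colVal_mask, ih k j, bitF_cond, add_mul]
      refine congrArg₂ (· + ·) ?_ ?_
      · by_cases h : i = k
        · subst h; simp
        · simp [h]
      · show bitF F (ncol D C r (enc D k)) (enc D i) * _ = cond _ 1 0 * _
        rw [mul_comm]
        rfl
    simp only [xG_val, hk, Finset.sum_add_distrib, Finset.sum_ite_eq, Finset.mem_univ, if_true]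

include hC in
/-- The rank of `g - 1`. -/
theorem rank_eq_of_chk {L G : List ℕ} {B : List (ℕ × ℕ × ℕ)} (h : chkRank D C L G B = true) :
    (((XL hF L : GL D.Idx F) : Matrix D.Idx D.Idx F) - 1).rank = B.length := by
  simp only [chkRank, Bool.and_eq_true, nbeq_iff, nblt_iff, List.all_eq_true, Nat.add_eq] at h
  obtain ⟨⟨⟨⟨⟨hlen, hL⟩, hG0⟩, hR0⟩, hB⟩, hP0⟩ := h
  have hG : ∀ c < G.length, G.getD c 0 = Nat.xor (colW D C L c) (Nat.pow 2 c) := fun c hc => by
    have := allIdx_spec hG0 c hc
    simp only [Nat.zero_add, nbeq_iff] at this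
    exact this
  have hR : ∀ c < G.length, G.getD c 0 = xpiv (G.getD c 0) B := fun c hc =>
    hR0 _ (by simp [hc])
  have hP := pivOk_spec hP0
  set M := ((XL hF L : GL D.Idx F) : Matrix D.Idx D.Idx F) - 1
  have hM : ∀ i j, M i j = bitF F (G.getD (enc D j) 0) (enc D i) := by
    intro i j
    show (((XL hF L : GL D.Idx F) : Matrix D.Idx D.Idx F) - 1) i j = _
    rw [hG _ (hlen ▸ enc_lt D j), bitF_xor, bitF_two_pow, Matrix.sub_apply, colW_spec hF hC L hL,
      Matrix.one_apply, sub_eq_add_neg, CharTwo.neg_eq]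
    congr 1
    by_cases h : i = j
    · subst h; simp
    · rw [if_neg h, if_neg fun e => h (enc_injective D e).symm]
  set b : Fin B.length → ℕ × ℕ × ℕ := fun m => B.getD m (0, 0, 0) with hb
  have hbmem : ∀ m : Fin B.length, b m ∈ B := fun m => by
    rw [hb]
    simp
  set Bm : Matrix D.Idx (Fin B.length) F := fun i m => bitF F (b m).1 (enc D i) with hBm
  have e1 : M = Bm * (Matrix.of fun m j => bitF F (G.getD (enc D j) 0) (b m).2.1) := by
    ext i j
    rw [Matrix.mul_apply, hM]
    simp only [Matrix.of_apply]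
    conv_lhs => rw [hR _ (hlen ▸ enc_lt D j), bitF_xpiv]
    exact Finset.sum_congr rfl fun m _ => mul_comm _ _
  have e2 : Bm = M * (Matrix.of fun j m => cond (Nat.testBit (b m).2.2 (enc D j)) (1 : F) 0) := by
    ext i m
    rw [Matrix.mul_apply]
    have := (hB _ (hbmem m)).1
    show bitF F (b m).1 (enc D i) = _
    rw [this, bitF_xsel]
    simp only [tb_eq]
    simp only [Matrix.of_apply, hM, zero_add, mul_comm (bitF F _ (enc D i))]
    rw [← sum_enc (D := D) fun c => cond (Nat.testBit (b m).2.2 c) (1 : F) 0 * bitF F (G.getD c 0) (enc D i)]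
    exact Fintype.sum_equiv (finCongr hlen) _ _ fun c => rfl
  have hrow : ∀ m : Fin B.length, ∃ i : D.Idx, enc D i = (b m).2.1 := fun m =>
    exists_enc D (hB _ (hbmem m)).2
  choose row hrow using hrow
  have e3 : (1 : Matrix D.Idx D.Idx F).submatrix row id * Bm = 1 := by
    ext m k
    rw [Matrix.mul_apply, Finset.sum_eq_single (row m)]
    · rw [Matrix.submatrix_apply, id, Matrix.one_apply_eq, one_mul]
      show bitF F (b k).1 (enc D (row m)) = _
      rw [hrow, bitF, hb]
      simp only [hP m k, Matrix.one_apply]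
      by_cases hmk : m = k <;> simp [hmk]
    · intro j _ hj
      rw [Matrix.submatrix_apply, id, Matrix.one_apply_ne (Ne.symm hj), zero_mul]
    · exact fun hn => absurd (Finset.mem_univ _) hn
  refine le_antisymm ?_ ?_
  · rw [e1]
    exact (Matrix.rank_mul_le_left _ _).trans ((Matrix.rank_le_card_width _).trans (by simp))
  · calc B.length = (1 : Matrix (Fin B.length) (Fin B.length) F).rank := by simp [Matrix.rank_one]
      _ ≤ Bm.rank := by rw [← e3]; exact Matrix.rank_mul_le_right _ _
      _ ≤ M.rank := by rw [e2]; exact Matrix.rank_mul_le_left _ _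

/-- Conjugate elements have equal ranks. -/
theorem rank_conj {H : Subgroup (GL D.Idx F)} {g h : GL D.Idx F} (hc : CjS H g h) :
    ((g : Matrix D.Idx D.Idx F) - 1).rank = ((h : Matrix D.Idx D.Idx F) - 1).rank := by
  have key : ∀ (e g h : GL D.Idx F), e * g * e⁻¹ = h →
      ((h : Matrix D.Idx D.Idx F) - 1).rank ≤ ((g : Matrix D.Idx D.Idx F) - 1).rank := by
    intro e g h he
    have : (h : Matrix D.Idx D.Idx F) - 1 = (e : Matrix D.Idx D.Idx F) *
        ((g : Matrix D.Idx D.Idx F) - 1) * ((e⁻¹ : GL D.Idx F) : Matrix D.Idx D.Idx F) := by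
      rw [← he, mul_sub, sub_mul, mul_one, Units.val_mul, Units.val_mul, Units.mul_inv]
    rw [this]
    exact (Matrix.rank_mul_le_left _ _).trans (Matrix.rank_mul_le_right _ _)
  obtain ⟨e, -, he⟩ := hc
  exact le_antisymm (key e⁻¹ h g (by rw [← he]; group)) (key e g h he)

end OrthInvol

end Cfsg.Agent.Chev
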