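import Cfsg.Agent.Chev.OrthInvol.Data
import Cfsg.Agent.Chev.Sound

/-!
The data on a simply laced system follow from checks on the packed tables.
-/

set_option autoImplicit false

namespace Cfsg.Agent.Chev

open Cfsg.Lie

universe u

namespace OrthInvol

/-- A sum below a bound. -/
noncomputable def zsum (f : ℕ → ℤ) (n : ℕ) : ℤ := Nat.rec 0 (fun m acc => Int.add acc (f m)) n

theorem zsum_eq (f : ℕ → ℤ) : ∀ n : ℕ, zsum f n = ∑ j : Fin n, f j
  | 0 => by simp [zsum]
  | n + 1 => by
    rw [Fin.sum_univ_castSucc]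
    show zsum f n + f n = _
    rw [zsum_eq f n]
    simp

/-- Strict order on integers. -/
noncomputable def zlt (a b : ℤ) : Bool :=
  Int.rec (fun _ => true) (fun _ => false) (Int.sub (Int.sub b a) 1)

theorem zlt_iff {a b : ℤ} : zlt a b = true ↔ a < b := by
  rw [zlt, show Int.sub (Int.sub b a) 1 = b - a - 1 from rfl]
  rcases h : b - a - 1 with n | n
  · exact iff_of_true rfl (by rw [Int.ofNat_eq_natCast] at h; omega)
  · exact iff_of_false (fun e => Bool.false_ne_true e) (by omega)

variable (D : ChevalleyDatum) (C : Cert)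

/-- The form from the table. -/
noncomputable def cip (r s : ℕ) : ℤ := zsum (fun j => Int.mul (C.cR r j) (C.cA j s)) D.rank

/-- The weight from the table. -/
noncomputable def cfv (r : ℕ) : ℤ :=
  zsum (fun j => Int.mul (C.cR r j) (Int.ofNat (Nat.pow 32 (Nat.sub (Nat.sub D.rank 1) j)))) D.rank

/-- Checks on one root. -/
noncomputable def chkOne (r : ℕ) : Bool :=
  zbeq (cip D C r r) 2 &&
  (allBelow (fun i => zbeq (cip D C r (D.simple i)) (C.cA i r)) D.rank) &&
  cond (Nat.blt (Nat.add r 1) D.nroots) (zlt (cfv D C r) (cfv D C (Nat.add r 1))) true &&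
  cond (Nat.ble (half D) r) (zlt 0 (cfv D C r)) true

/-- Checks on the commutator of two positive roots. -/
noncomputable def chkComm (r s : ℕ) (v : ℤ) (l : List (ℕ × ℤ × ℕ × ℕ)) : Bool :=
  cond (zbeq v (-1))
    (List.rec (motive := fun _ => Bool) false
      (fun c l _ => l.isEmpty && Nat.beq c.2.2.1 1 && Nat.beq c.2.2.2 1 &&
        not (zbeq (Int.emod c.2.1 2) 0) && Nat.ble (half D) c.1 && Nat.blt c.1 D.nroots &&
        zbeq (cfv D C c.1) (Int.add (cfv D C r) (cfv D C s)) &&
        allBelow (fun j => zbeq (C.cA j c.1) (Int.add (C.cA j r) (C.cA j s))) D.rank) l)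
    (l.isEmpty && or (zbeq v 0) (zbeq v 1))

/-- The root `s - k`. -/
noncomputable def chkDiff (k s : ℕ) : Bool :=
  List.rec (motive := fun _ => Bool) false
    (fun c _ _ => Nat.ble (half D) c.1 && Nat.blt c.1 D.nroots &&
      zbeq (cfv D C s) (Int.add (cfv D C c.1) (cfv D C k)) && zbeq (cip D C c.1 k) (-1))
    (C.cE D (negN D k) s)

/-- Checks on a pair of roots. -/
noncomputable def chkTwo (r s : ℕ) : Bool :=
  zbeq (cip D C r s) (cip D C s r) &&
  cond (zbeq (cip D C r s) 0) ((C.cTerms D r s).isEmpty && not (Nat.beq s (negN D r))) true &&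
  cond (Nat.ble (half D) r && Nat.ble (half D) s && not (Nat.beq r s))
    (chkComm D C r s (cip D C r s) (C.cTerms D r s) &&
      cond (Nat.blt r s && zbeq (cip D C r s) 1) (chkDiff D C r s) true) true

/-- All checks. -/
noncomputable def chkSys : Bool :=
  allBelow (chkOne D C) D.nroots && allBelow (fun r => allBelow (chkTwo D C r) D.nroots) D.nroots

variable {D C}

theorem orthData (h : Checks D C) (hc : chkSys D C = true) : OrthData D := by
  simp only [chkSys, Bool.and_eq_true, allBelow_iff] at hc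
  obtain ⟨h1, h2⟩ := hc
  have eip : ∀ r s, r < D.nroots → s < D.nroots → ip D r s = cip D C r s := by
    intro r s hr hs
    rw [cip, zsum_eq]
    exact Finset.sum_congr rfl fun j _ => by
      rw [coef_eq h j.2 hr, cartan_eq h j.2 hs]; rfl
  have efv : ∀ r, r < D.nroots → fv D r = cfv D C r := by
    intro r hr
    rw [cfv, zsum_eq]
    refine Finset.sum_congr rfl fun j _ => ?_
    rw [coef_eq h j.2 hr]
    show C.cR r j * (32 : ℤ) ^ (D.rank - 1 - (j : ℕ)) = C.cR r j * _
    simp [Nat.pow_eq, Nat.sub_eq]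
  have one : ∀ r < D.nroots, _ := fun r hr => by
    have := h1 r hr
    simp only [chkOne, Bool.and_eq_true, allBelow_iff, zbeq_iff, Nat.add_eq] at this
    exact this
  have two : ∀ r < D.nroots, ∀ s < D.nroots, _ := fun r hr s hs => by
    have := h2 r hr s hs
    simp only [chkTwo, Bool.and_eq_true, zbeq_iff] at this
    exact this
  have hmono : ∀ r d, r + d + 1 < D.nroots → fv D r < fv D (r + d + 1) := by
    intro r d
    induction d with
    | zero =>
      intro hr
      have := (one r (by omega)).1.2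
      rw [nblt_iff.2 hr, cond_true, zlt_iff] at this
      rwa [efv r (by omega), efv (r + 0 + 1) hr]
    | succ d ih =>
      intro hr
      have := (one (r + d + 1) (by omega)).1.2
      rw [nblt_iff.2 (by omega), cond_true, zlt_iff, ← efv _ (by omega), ← efv _ (by omega)] at this
      exact (ih (by omega)).trans this
  refine ⟨fun r hr => ?_, fun r hr s hs => ?_, fun r hr s hs h0 => ?_, fun r hr s hs a b c d => ?_,
    fun r hr s hs a b c => ?_, fun k hk s hs a b c => ?_, fun r hr s hs a => ?_, fun r hr a => ?_,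
    fun i r hr => ?_, fun i => ⟨(simple_split h i.2).1, (simple_split h i.2).2.2.1⟩⟩
  · rw [eip r r hr hr]
    exact (one r hr).1.1.1
  · rw [eip r s hr hs, eip s r hs hr]
    exact (two r hr s hs).1.1
  · have := (two r hr s hs).1.2
    rw [eip r s hr hs] at h0
    rw [zbeq_iff.2 h0, cond_true, Bool.and_eq_true, List.isEmpty_iff, Bool.not_eq_true',
      nbeq_false_iff, negN_eq] at this
    rw [commTerms_eq h, neg_eq h hr]
    exact this
  · have := (two r hr s hs).2
    rw [nble_iff.2 a, nble_iff.2 b, nbeq_false_iff.2 c] at this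
    simp only [Bool.not_false, Bool.and_true, cond_true, Bool.and_eq_true] at this
    have := this.1
    rw [eip r s hr hs] at d ⊢
    rw [chkComm, show zbeq (cip D C r s) (-1) = false by
      rw [← Bool.not_eq_true, zbeq_iff]; exact d] at this
    simp only [cond_false, Bool.and_eq_true, Bool.or_eq_true, zbeq_iff, List.isEmpty_iff] at this
    exact ⟨(commTerms_eq h r s).trans this.1, this.2⟩
  · have := (two r hr s hs).2
    rw [eip r s hr hs] at c
    have hne : r ≠ s := by
      intro e
      subst e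
      rw [(one r hr).1.1.1] at c
      exact absurd c (by norm_num)
    rw [nble_iff.2 a, nble_iff.2 b, nbeq_false_iff.2 hne] at this
    simp only [Bool.not_false, Bool.and_true, cond_true, Bool.and_eq_true] at this
    have := this.1
    rw [chkComm, zbeq_iff.2 c, cond_true] at this
    rcases hl : C.cTerms D r s with _ | ⟨⟨m, z, i, j⟩, l⟩
    · rw [hl] at this
      exact absurd this Bool.false_ne_true
    · rw [hl] at this
      simp only [Bool.and_eq_true, Bool.not_eq_true', nbeq_iff, zbeq_iff, nble_iff, nblt_iff,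
        allBelow_iff, List.isEmpty_iff] at this
      obtain ⟨⟨⟨⟨⟨⟨⟨rfl, rfl⟩, rfl⟩, hz⟩, hm1⟩, hm2⟩, hm3⟩, hm4⟩ := this
      refine ⟨m, z, (commTerms_eq h r s).trans hl, ?_, hm1, hm2, ?_, fun j => ?_⟩
      · intro e
        rw [← Bool.not_eq_true, zbeq_iff] at hz
        exact hz e
      · rw [efv m hm2, efv r hr, efv s hs, hm3]; rfl
      · rw [cartan_eq h j.2 hm2, cartan_eq h j.2 hr, cartan_eq h j.2 hs, hm4 j j.2]; rfl
  · have := (two k hk s hs).2
    rw [eip k s hk hs] at c
    rw [nble_iff.2 a, nble_iff.2 (a.trans b.le), nbeq_false_iff.2 b.ne] at this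
    simp only [Bool.not_false, Bool.and_true, cond_true, Bool.and_eq_true] at this
    have := this.2
    rw [nblt_iff.2 b, zbeq_iff.2 c, Bool.and_self, cond_true, chkDiff] at this
    rcases hl : C.cE D (negN D k) s with _ | ⟨c', l⟩
    · rw [hl] at this
      exact absurd this Bool.false_ne_true
    · rw [hl] at this
      simp only [Bool.and_eq_true, nble_iff, nblt_iff, zbeq_iff] at this
      obtain ⟨⟨⟨x1, x2⟩, x3⟩, x4⟩ := this
      exact ⟨c'.1, x1, x2, by rw [efv s hs, efv _ x2, efv k hk, x3]; rfl, (eip _ _ x2 hk).trans x4⟩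
  · obtain ⟨d, rfl⟩ : ∃ d, s = r + d + 1 := ⟨s - r - 1, by omega⟩
    exact hmono r d hs
  · have := (one r hr).2
    rw [nble_iff.2 a, cond_true, zlt_iff] at this
    rwa [efv r hr]
  · obtain ⟨e1, e2, -, -, -, -, -, e3⟩ := refl_split h i.2 hr
    have e4 : ip D r (D.simple i) = D.cartan i r := by
      rw [eip r _ hr (simple_split h i.2).1, (one r hr).1.1.2 i i.2, cartan_eq h i.2 hr]
    refine ⟨e1 ▸ e2, fun j => ?_, fun j => ?_, e4⟩
    · rw [e1, (e3 j j.2).2]
      congr 2
    · rw [e1, (e3 j j.2).1]

end OrthInvol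

end Cfsg.Agent.Chev
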