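import Cfsg.Agent.Chev.OrthInvol.Reduce
import Cfsg.Agent.Chev.OrthInvol.Check
import Cfsg.Agent.Chev.UnipotentCount
import Cfsg.Agent.Chev.Collect

/-!
Products over orthogonal roots are conjugate to listed representatives.
-/

set_option autoImplicit false
set_option maxRecDepth 100000
set_option maxHeartbeats 1000000

namespace Cfsg.Agent.Chev

open Cfsg.Lie

universe u

namespace OrthInvol

variable {D : ChevalleyDatum} {F : Type u} [Field F] [CharP F 2] (hF : Facts.{u} D)

/-- The product of root elements with coefficient one. -/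
def XL (L : List ℕ) : GL D.Idx F := wordG hF (L.map fun r => (r, (1 : F)))

/-- Pairwise orthogonal roots. -/
def Orth (D : ChevalleyDatum) (L : List ℕ) : Prop :=
  (∀ r ∈ L, r < D.nroots) ∧ L.Pairwise fun r s => ip D r s = 0

theorem xG_mem_group {r : ℕ} (hr : r < D.nroots) (t : F) : xG hF r t ∈ D.group F :=
  Subgroup.subset_closure ⟨⟨r, hr⟩, t, by rw [xG_val, ChevalleyDatum.x, dif_pos hr]⟩

theorem XL_mem {L : List ℕ} (h : ∀ r ∈ L, r < D.nroots) : XL hF L (F := F) ∈ D.group F :=
  wordG_mem hF fun p hp => by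
    obtain ⟨r, hr, rfl⟩ := List.mem_map.1 hp
    exact xG_mem_group hF (h r hr) 1

theorem nS_mem_group' (i : Fin D.rank) : (nS hF (i : ℕ) : GL D.Idx F) ∈ D.group F := by
  have hp := hF.simple_lt i i.2
  exact Subgroup.mul_mem _ (Subgroup.mul_mem _ (xG_mem_group hF hp _)
    (xG_mem_group hF (neg_lt hF hp) _)) (xG_mem_group hF hp _)

theorem nS_root_one (i : Fin D.rank) {r : ℕ} (hr : r < D.nroots) (t : F) :
    nS hF (i : ℕ) * xG hF r t = xG hF (D.reflectRoot i r) t * nS hF (i : ℕ) := by
  have h := nS_conj_x hF i.2 hr t (F := F)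
  have h1 : (etaN hF i r : F) = 1 := by
    have h2 := etaN_cast_sq hF i.2 hr (F := F)
    have h3 : ((etaN hF i r : F) + 1) ^ 2 = 0 := by
      rw [CharTwo.add_sq, pow_two, h2, one_pow, CharTwo.add_self_eq_zero]
    have := eq_neg_of_add_eq_zero_left (pow_eq_zero_iff two_ne_zero |>.1 h3)
    rwa [ct_neg] at this
  rw [h1, one_mul] at h
  exact h

theorem nS_XL (i : Fin D.rank) : ∀ L : List ℕ, (∀ r ∈ L, r < D.nroots) →
    nS hF (i : ℕ) * XL hF L (F := F) = XL hF (L.map (D.reflectRoot i)) * nS hF (i : ℕ)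
  | [], _ => by simp [XL, wordG]
  | r :: L, h => by
    have e : ∀ (a : ℕ) (M : List ℕ), XL hF (a :: M) (F := F) = xG hF a 1 * XL hF M := fun a M => by
      simp [XL, wordG]
    rw [List.map_cons, e, e, ← mul_assoc, nS_root_one hF i (h r (List.mem_cons_self ..)) 1, mul_assoc,
      nS_XL i L (fun s hs => h s (List.mem_cons_of_mem _ hs)), mul_assoc]

variable (hO : OrthData D)

include hO in
theorem orth_map {L : List ℕ} (h : Orth D L) (i : Fin D.rank) :
    Orth D (L.map (D.reflectRoot i)) := by
  refine ⟨fun r hr => ?_, List.pairwise_map.2 (h.2.imp_of_mem fun {a b} ha hb e => ?_)⟩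
  · obtain ⟨s, hs, rfl⟩ := List.mem_map.1 hr
    exact (hO.refl i s (h.1 s hs)).1
  · rw [hO.ip_refl i (h.1 a ha) (h.1 b hb), e]

include hO in
theorem cj_reflect {L : List ℕ} (h : Orth D L) (i : Fin D.rank) :
    CjS (D.group F) (XL hF L) (XL hF (L.map (D.reflectRoot i))) :=
  ⟨nS hF (i : ℕ), nS_mem_group' hF i, by rw [nS_XL hF i L h.1, mul_inv_cancel_right]⟩

include hO in
theorem XL_perm {L L' : List ℕ} (h : Orth D L) (hp : L.Perm L') :
    XL hF L (F := F) = XL hF L' := by
  refine (hp.map _ |>.map _).prod_eq' ?_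
  rw [List.pairwise_map, List.pairwise_map]
  exact h.2.imp_of_mem fun {a b} ha hb e => commute_zero hF hO (h.1 a ha) (h.1 b hb) e _ _

/-- How a node of the tree is settled. -/
inductive Act where
  | rep : List ℕ → ℕ → Act
  | drop : List ℕ → List ℕ → Act

/-- The image of a root under a word. -/
noncomputable def cImg (C : Cert) (w : List ℕ) (r : ℕ) : ℕ := w.foldr (fun i s => C.cW i s) r

/-- Pairwise orthogonality from the table. -/
noncomputable def chkOrthL (D : ChevalleyDatum) (C : Cert) : List ℕ → Bool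
  | [] => true
  | r :: L => Nat.blt r D.nroots && L.all (fun s => zbeq (cip D C r s) 0) && chkOrthL D C L

/-- The letters of a word. -/
def oneW (l : List ℕ) : List (ℕ × CE) := l.map fun r => (r, CE.one)

/-- The support of a collected word with constant coefficients. -/
def suppW (D : ChevalleyDatum) (l : List ℕ) : List (ℕ × List (List ℕ)) :=
  (collPoly D (fun r => r) 400 (oneW l)).filter fun p => !p.2.isEmpty

/-- The check of one action. -/
noncomputable def chkAct (D : ChevalleyDatum) (C : Cert) (reps : List (List ℕ)) (acc : List ℕ) :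
    Act → Bool
  | .rep w k => w.all (fun i => Nat.blt i D.rank) &&
      (decide (k < reps.length) && (acc.map (cImg C w)).isPerm (reps.getD k []))
  | .drop eps L' => Nat.blt L'.length acc.length && chkOrthL D C L' &&
      eps.all (fun r => Nat.blt r D.nroots) && (suppW D (eps ++ acc) == suppW D (L' ++ eps))

/-- The roots that may extend a node. -/
noncomputable def cand (D : ChevalleyDatum) (C : Cert) (acc : List ℕ) : List ℕ :=
  (List.range D.nroots).filter fun r => acc.all (fun p => zbeq (cip D C p r) 0) &&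
    allBelow (fun i => cond (acc.all fun p => zbeq (C.cA i p) 0) (not (zlt (C.cA i r) 0)) true) D.rank

/-- The check of the tree below a node. -/
noncomputable def chkTree (D : ChevalleyDatum) (C : Cert) (reps : List (List ℕ))
    (tab : List (List ℕ × Act)) : ℕ → List ℕ → Bool
  | 0, _ => false
  | n + 1, acc => (acc.isEmpty || match tab.lookup acc with
      | some a => chkAct D C reps acc a
      | none => false) && (cand D C acc).all fun r => chkTree D C reps tab n (acc ++ [r])

theorem wordC_suppW (l : List ℕ) :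
    XL hF l (F := F) = wordG hF ((suppW D l).map fun p => (p.1, CE.pval (fun _ => (0 : F)) p.2)) := by
  have h : XL hF l (F := F) = wordC hF (fun _ => (0 : F)) (oneW l) := by
    simp [XL, wordC, oneW, CE.val, Function.comp_def]
  rw [h, wordC_collPoly hF _ (fun r => r) 400, suppW]
  generalize collPoly D (fun r => r) 400 (oneW l) = w
  induction w with
  | nil => rfl
  | cons p w ih =>
    rw [List.map_cons, wordG_cons, ih, List.filter_cons]
    cases hp : p.2.isEmpty
    · simp [wordG_cons]
    · rw [List.isEmpty_iff] at hp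
      simp [hp, CE.pval, xG_zero]

variable {C : Cert} (hC : Checks D C) {reps : List (List ℕ)} {tab : List (List ℕ × Act)}

omit [CharP F 2] in
include hC in
theorem cip_eq {r s : ℕ} (hr : r < D.nroots) (hs : s < D.nroots) : cip D C r s = ip D r s := by
  rw [cip, zsum_eq]
  exact (Finset.sum_congr rfl fun j _ => by rw [coef_eq hC j.2 hr, cartan_eq hC j.2 hs]; rfl).symm

omit [CharP F 2] in
include hC in
theorem orth_of_chk : ∀ L : List ℕ, chkOrthL D C L = true → Orth D L
  | [], _ => ⟨by simp, List.Pairwise.nil⟩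
  | r :: L, h => by
    simp only [chkOrthL, Bool.and_eq_true, nblt_iff, List.all_eq_true, zbeq_iff] at h
    obtain ⟨⟨h1, h2⟩, h3⟩ := h
    obtain ⟨a, b⟩ := orth_of_chk L h3
    exact ⟨fun s hs => (List.mem_cons.1 hs).elim (fun e => e ▸ h1) (a s),
      List.pairwise_cons.2 ⟨fun s hs => (cip_eq hC h1 (a s hs)).symm.trans (h2 s hs), b⟩⟩

include hO hC in
theorem cj_word : ∀ (w : List ℕ), (∀ i ∈ w, i < D.rank) → ∀ L, Orth D L →
    Orth D (L.map (cImg C w)) ∧ CjS (D.group F) (XL hF L) (XL hF (L.map (cImg C w)))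
  | [], _, L, h => by
    have : L.map (cImg C []) = L := by
      show L.map (fun r => r) = L
      simp
    rw [this]
    exact ⟨h, 1, Subgroup.one_mem _, by simp⟩
  | i :: w, hw, L, h => by
    obtain ⟨h1, h2⟩ := cj_word w (fun j hj => hw j (List.mem_cons_of_mem _ hj)) L h
    have hi := hw i (List.mem_cons_self ..)
    have e : L.map (cImg C (i :: w)) = (L.map (cImg C w)).map (D.reflectRoot (⟨i, hi⟩ : Fin D.rank)) := by
      rw [List.map_map]
      refine List.map_congr_left fun r hr => ?_
      show C.cW i (cImg C w r) = D.reflectRoot i (cImg C w r)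
      exact (refl_split hC hi (h1.1 _ (List.mem_map_of_mem hr))).1.symm
    rw [e]
    exact ⟨orth_map hO h1 ⟨i, hi⟩, h2.trans (cj_reflect hF hO h1 ⟨i, hi⟩)⟩

include hO hC in
theorem cj_act {acc : List ℕ} (h : Orth D acc) {a : Act} (ha : chkAct D C reps acc a = true) :
    (∃ L, L.length < acc.length ∧ Orth D L ∧ CjS (D.group F) (XL hF acc) (XL hF L)) ∨
      ∃ k < reps.length, CjS (D.group F) (XL hF acc) (XL hF (reps.getD k [])) := by
  cases a with
  | rep w k =>
    simp only [chkAct, Bool.and_eq_true, List.all_eq_true, nblt_iff, decide_eq_true_eq,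
      List.isPerm_iff] at ha
    obtain ⟨h1, h2⟩ := cj_word hF hO hC w ha.1 acc h (F := F)
    refine Or.inr ⟨k, ha.2.1, ?_⟩
    rwa [← XL_perm hF hO h1 ha.2.2]
  | drop eps L' =>
    simp only [chkAct, Bool.and_eq_true, List.all_eq_true, nblt_iff, beq_iff_eq] at ha
    obtain ⟨⟨⟨h1, h2⟩, h3⟩, h4⟩ := ha
    refine Or.inl ⟨L', h1, orth_of_chk hC L' h2, XL hF eps, XL_mem hF h3, ?_⟩
    have e : XL hF eps (F := F) * XL hF acc = XL hF L' * XL hF eps := by
      have happ : ∀ l l' : List ℕ, XL hF (l ++ l') (F := F) = XL hF l * XL hF l' := fun l l' => by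
        simp [XL, wordG_append]
      rw [← happ, ← happ, wordC_suppW, wordC_suppW hF (L' ++ eps), h4]
    rw [e, mul_inv_cancel_right]

include hO hC in
theorem tree_node : ∀ (n : ℕ) (acc L : List ℕ), chkTree D C reps tab n acc = true →
    Orth D (acc ++ L) → ∃ acc', acc'.length = (acc ++ L).length ∧ Orth D acc' ∧
      CjS (D.group F) (XL hF (acc ++ L)) (XL hF acc') ∧
      (acc' = [] ∨ ∃ a, chkAct D C reps acc' a = true) := by
  intro n
  induction n with
  | zero => intro acc L h; exact absurd h Bool.false_ne_true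
  | succ n ih =>
    intro acc L hchk hL
    simp only [chkTree, Bool.and_eq_true, Bool.or_eq_true, List.all_eq_true] at hchk
    obtain ⟨hnode, hkids⟩ := hchk
    match L with
    | [] =>
      rw [List.append_nil] at hL ⊢
      refine ⟨acc, rfl, hL, ⟨1, Subgroup.one_mem _, by simp⟩, hnode.imp List.isEmpty_iff.1 fun h => ?_⟩
      cases hlk : tab.lookup acc with
      | none => rw [hlk] at h; exact absurd h Bool.false_ne_true
      | some a => rw [hlk] at h; exact ⟨a, h⟩
    | r :: L =>
      suffices main : ∀ (d r : ℕ) (L : List ℕ), D.nroots - r = d → Orth D (acc ++ r :: L) →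
          ∃ acc', acc'.length = (acc ++ r :: L).length ∧ Orth D acc' ∧
            CjS (D.group F) (XL hF (acc ++ r :: L)) (XL hF acc') ∧
            (acc' = [] ∨ ∃ a, chkAct D C reps acc' a = true) from main _ r L rfl hL
      intro d
      induction d using Nat.strong_induction_on with
      | _ d ihd =>
        intro r L hd hL
        have hr : r < D.nroots := hL.1 r (by simp)
        have hacc : ∀ p ∈ acc, p < D.nroots := fun p hp => hL.1 p (by simp [hp])
        have hpr : ∀ p ∈ acc, cip D C p r = 0 := fun p hp => by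
          rw [cip_eq hC (hacc p hp) hr]
          exact (List.pairwise_append.1 hL.2).2.2 p hp r (List.mem_cons_self ..)
        by_cases hdom : ∀ i : Fin D.rank, (∀ p ∈ acc, D.cartan i p = 0) → 0 ≤ D.cartan i r
        · have hmem : r ∈ cand D C acc := by
            simp only [cand, List.mem_filter, List.mem_range, Bool.and_eq_true, List.all_eq_true,
              zbeq_iff, allBelow_iff]
            refine ⟨hr, hpr, fun i hi => ?_⟩
            cases hJ : acc.all fun p => zbeq (C.cA i p) 0
            · rfl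
            · simp only [List.all_eq_true, zbeq_iff] at hJ
              rw [cond_true, Bool.not_eq_true', ← Bool.not_eq_true, zlt_iff, ← cartan_eq hC hi hr]
              exact not_lt.2 (hdom ⟨i, hi⟩ fun p hp => (cartan_eq hC hi (hacc p hp)).trans (hJ p hp))
          rw [List.append_cons] at hL ⊢
          exact ih _ _ (hkids r hmem) hL
        · push Not at hdom
          obtain ⟨i, hi0, hneg⟩ := hdom
          have e : (acc ++ r :: L).map (D.reflectRoot i) =
              acc ++ D.reflectRoot i r :: L.map (D.reflectRoot i) := by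
            rw [List.map_append, List.map_cons]
            congr 1
            exact (List.map_congr_left fun p hp => hO.refl_fix i (hacc p hp) (hi0 p hp)).trans (by simp)
          have hlt := hO.refl_lt i hr hneg
          have h' := orth_map hO hL i
          rw [e] at h'
          obtain ⟨acc', a1, a2, a3, a4⟩ := ihd _ (by omega) _ _ rfl h'
          refine ⟨acc', by simpa using a1, a2, ?_, a4⟩
          have := cj_reflect hF hO hL i (F := F)
          rw [e] at this
          exact this.trans a3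

include hO hC in
theorem orth_reps {fuel : ℕ} (hT : chkTree D C reps tab fuel [] = true) :
    ∀ (n : ℕ) (L : List ℕ), L.length = n → Orth D L →
      XL hF L (F := F) = 1 ∨ CjS (D.group F) (XL hF L) 1 ∨
      ∃ k < reps.length, CjS (D.group F) (XL hF L) (XL hF (reps.getD k [])) := by
  intro n
  induction n using Nat.strong_induction_on with
  | _ n ih =>
    intro L hn hL
    obtain ⟨acc', a1, a2, a3, a4⟩ := tree_node hF hO hC fuel [] L hT hL (F := F)
    rw [List.nil_append] at a1 a3
    rcases a4 with rfl | ⟨a, ha⟩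
    · exact Or.inr (Or.inl (by simpa [XL, wordG] using a3))
    rcases cj_act hF hO hC a2 ha (F := F) with ⟨L', b1, b2, b3⟩ | ⟨k, hk, b⟩
    · rcases ih L'.length (by omega) L' rfl b2 with c | c | ⟨k, hk, c⟩
      · exact Or.inr (Or.inl (c ▸ a3.trans b3))
      · exact Or.inr (Or.inl ((a3.trans b3).trans c))
      · exact Or.inr (Or.inr ⟨k, hk, (a3.trans b3).trans c⟩)
    · exact Or.inr (Or.inr ⟨k, hk, a3.trans b⟩)

section Finite

variable [Fintype F]

include hO in
theorem scale : ∀ L : List (ℕ × F), (∀ p ∈ L, p.1 < D.nroots ∧ p.2 ≠ 0) →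
    L.Pairwise (fun p q => ip D p.1 q.1 = 0) →
    ∃ c : Fin D.rank → Fˣ, (∀ p ∈ L, (chiU c p.1 : F) * p.2 = 1) ∧
      ∀ u < D.nroots, (∀ p ∈ L, ip D p.1 u = 0) → chiU c u = 1
  | [], _, _ => ⟨1, by simp, fun u _ _ => by simp [chiU]⟩
  | p :: L, h, hp => by
    obtain ⟨hp1, hp2⟩ := List.pairwise_cons.1 hp
    obtain ⟨c, hc1, hc2⟩ := scale L (fun q hq => h q (List.mem_cons_of_mem _ hq)) hp2
    obtain ⟨hr, hc0⟩ := h p (List.mem_cons_self ..)
    obtain ⟨l, hl⟩ : ∃ l : F, l ^ 2 = p.2⁻¹ := (frobeniusEquiv F 2).surjective _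
    have hl0 : l ≠ 0 := fun e => by
      rw [e, zero_pow two_ne_zero] at hl
      exact inv_ne_zero hc0 hl.symm
    set U := Units.mk0 l hl0
    have hchi : ∀ u, chiU (fun j : Fin D.rank => U ^ coef D p.1 j) u = U ^ ip D p.1 u := by
      intro u
      rw [chiU, ip]
      simp only [← zpow_mul]
      induction (Finset.univ : Finset (Fin D.rank)) using Finset.induction_on with
      | empty => simp
      | insert a S hS ihs => rw [Finset.prod_insert hS, Finset.sum_insert hS, ihs, zpow_add]
    have hmul : ∀ u, chiU (c * fun j : Fin D.rank => U ^ coef D p.1 j) u =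
        chiU c u * U ^ ip D p.1 u := fun u => by
      rw [← hchi u]
      simp [chiU, mul_zpow, Finset.prod_mul_distrib]
    refine ⟨c * fun j : Fin D.rank => U ^ coef D p.1 j, fun q hq => ?_, fun u hu hu' => ?_⟩
    · rw [hmul]
      rcases List.mem_cons.1 hq with rfl | hq
      · rw [hc2 q.1 hr fun q' hq' => by
          rw [hO.symm q'.1 (h q' (List.mem_cons_of_mem _ hq')).1 q.1 hr]; exact hp1 q' hq', hO.self _ hr,
          one_mul, show ((2 : ℤ)) = ((2 : ℕ) : ℤ) from rfl, zpow_natCast, Units.val_pow_eq_pow_val]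
        show l ^ 2 * q.2 = 1
        rw [hl, inv_mul_cancel₀ hc0]
      · rw [hp1 q hq, zpow_zero, mul_one]
        exact hc1 q hq
    · rw [hmul, hu' p (List.mem_cons_self ..), zpow_zero, mul_one]
      exact hc2 u hu fun q hq => hu' q (List.mem_cons_of_mem _ hq)

theorem torus_word (c : Fin D.rank → Fˣ) : ∀ L : List (ℕ × F),
    (∀ p ∈ L, p.1 < D.nroots ∧ (chiU c p.1 : F) * p.2 = 1) →
    torusHom c * wordG hF L = XL hF (L.map Prod.fst) * torusHom c
  | [], _ => by simp [XL, wordG]
  | p :: L, h => by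
    obtain ⟨h1, h2⟩ := h p (List.mem_cons_self ..)
    rw [wordG_cons, ← mul_assoc, torusHom_conj hF c h1, h2, mul_assoc,
      torus_word c L (fun q hq => h q (List.mem_cons_of_mem _ hq))]
    simp [XL, wordG_cons, mul_assoc]

include hF in
theorem group_le_PJ : D.group F ≤ PJ (D := D) (F := F) Finset.univ := by
  intro g hg
  obtain ⟨b, hb, w, x, hx, rfl⟩ := exists_normalForm hF hg
  have hB : D.borelSubgroup F ≤ PJ (D := D) (F := F) Finset.univ := borel_le_parabolic _
  have hU : x ∈ D.borelSubgroup F := uMinus_le_borel hF _ hx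
  refine Subgroup.mul_mem _ (Subgroup.mul_mem _ (hB hb) ?_) (hB hU)
  refine Subgroup.list_prod_mem _ fun y hy => ?_
  obtain ⟨i, -, rfl⟩ := List.mem_map.1 hy
  refine Subgroup.mem_sup_right (Subgroup.subset_closure ⟨i, ?_, i.2, ?_⟩)
  · simp
  · exact nG_val hF _ _

include hF in
theorem conj_into_U {g : GL D.Idx F} (hg : g ∈ D.group F) (hsq : g * g = 1) :
    ∃ h ∈ D.posUnipotent F, CjS (D.group F) g h := by
  classical
  set PP : Subgroup (GL D.Idx F) := PJ (D := D) (F := F) Finset.univ with hPP
  haveI : Fact (Nat.Prime 2) := ⟨Nat.prime_two⟩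
  have hUle : D.posUnipotent F ≤ PP := le_trans le_sup_left (borel_le_parabolic _)
  have hUp : IsPGroup 2 ((D.posUnipotent F).subgroupOf PP) :=
    (isPGroup_posUnipotent hF 2).of_equiv (Subgroup.subgroupOfEquivOfLe hUle).symm
  let S := hUp.toSylow (not_dvd_index_posU hF 2 Finset.univ)
  set x : ↥PP := ⟨g, group_le_PJ hF hg⟩ with hx
  have hx2 : x ^ 2 = 1 := Subtype.ext (by rw [pow_two]; exact hsq)
  have hxp : IsPGroup 2 (Subgroup.zpowers x) := by
    rintro ⟨y, hy⟩
    obtain ⟨i, rfl⟩ := Subgroup.mem_zpowers_iff.1 hy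
    refine ⟨1, Subtype.ext ?_⟩
    show (x ^ i) ^ 2 ^ 1 = 1
    rw [pow_one, ← zpow_natCast, ← zpow_mul, mul_comm, zpow_mul, zpow_natCast, hx2, one_zpow]
  obtain ⟨T', hT⟩ := hxp.exists_le_sylow
  obtain ⟨k, hk⟩ := MulAction.exists_smul_eq ↥PP T' S
  have hPG : PP ≤ D.group F := by
    rw [hPP]
    refine sup_le (borel_le_group hF) ((Subgroup.closure_le _).2 ?_)
    rintro y ⟨j, -, hj, e⟩
    have : y = nS hF j := Units.ext (by rw [e]; exact (nG_val hF _ _).symm)
    rw [this]
    exact nS_mem_group' hF ⟨j, hj⟩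
  refine ⟨(k * x * k⁻¹ : ↥PP), ?_, (k : GL D.Idx F), hPG k.2, rfl⟩
  have : k * x * k⁻¹ ∈ (S : Subgroup ↥PP) := by
    rw [← hk]
    exact ⟨x, hT (Subgroup.mem_zpowers x), by simp [MulAut.conj_apply]⟩
  rwa [IsPGroup.toSylow_coe, Subgroup.mem_subgroupOf] at this

include hO hC in
/-- Every involution is conjugate to one of the representatives. -/
theorem invol_reps {fuel : ℕ} (hT : chkTree D C reps tab fuel [] = true)
    {g : GL D.Idx F} (hg : g ∈ D.group F) (hsq : g * g = 1) (hne : g ≠ 1) :
    ∃ k < reps.length, CjS (D.group F) g (XL hF (reps.getD k [])) := by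
  obtain ⟨h, hh, hc⟩ := conj_into_U hF hg hsq
  obtain ⟨t, rfl⟩ := (mem_posUnipotent_iff hF).1 hh
  have hsq' : prodFrom hF (half D) t * prodFrom hF (half D) t = 1 := by
    obtain ⟨e, -, he⟩ := hc
    rw [← he, show e * g * e⁻¹ * (e * g * e⁻¹) = e * (g * g) * e⁻¹ by group, hsq, mul_one,
      mul_inv_cancel]
  obtain ⟨L, h1, h2, e, he, he'⟩ := exists_orth hF hO _ (half D) rfl le_rfl [] t
    (fun r _ _ _ p hp => absurd hp (List.not_mem_nil)) hsq'
  have he0 : e ∈ D.group F := by
    refine (Subgroup.closure_le _).2 ?_ he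
    rintro _ ⟨r, v, -, hr, -, rfl⟩
    exact xG_mem_group hF hr v
  obtain ⟨c, hc1, -⟩ := scale hO L (fun p hp => ⟨(h1 p hp).2.1, (h1 p hp).2.2.2⟩) h2
  have htor : CjS (D.group F) (wordG hF L) (XL hF (L.map Prod.fst)) :=
    ⟨torusHom c, borel_le_group hF (Subgroup.mem_sup_right (torusHom_mem hF c)),
      by rw [torus_word hF c L fun p hp => ⟨(h1 p hp).2.1, hc1 p hp⟩, mul_inv_cancel_right]⟩
  have hL : Orth D (L.map Prod.fst) :=
    ⟨fun r hr => by obtain ⟨p, hp, rfl⟩ := List.mem_map.1 hr; exact (h1 p hp).2.1,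
      List.pairwise_map.2 h2⟩
  have htot := (hc.trans ⟨e, he0, he'⟩).trans htor
  rcases orth_reps hF hO hC hT _ _ rfl hL (F := F) with a | a | ⟨k, hk, a⟩
  · rw [a] at htot
    obtain ⟨x, -, hx⟩ := htot
    exact absurd (conj_eq_one_iff.1 hx) hne
  · obtain ⟨x, -, hx⟩ := htot.trans a
    exact absurd (conj_eq_one_iff.1 hx) hne
  · exact ⟨k, hk, htot.trans a⟩

end Finite

end OrthInvol

end Cfsg.Agent.Chev
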