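import Cfsg.Agent.Chev.DomCentralizer
import Cfsg.Agent.Chev.Simple
import Mathlib.Algebra.CharP.Two

/-!
Data on a simply laced root system used to bring involutions in characteristic two to products
over orthogonal roots.
-/

set_option autoImplicit false

namespace Cfsg.Agent.Chev

open Cfsg.Lie

universe u

namespace OrthInvol

/-- The invariant form at two roots. -/
def ip (D : ChevalleyDatum) (r s : ℕ) : ℤ := ∑ j : Fin D.rank, coef D r j * D.cartan j s

/-- A linear weight separating the roots. -/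
def fv (D : ChevalleyDatum) (r : ℕ) : ℤ :=
  ∑ j : Fin D.rank, coef D r j * (32 : ℤ) ^ (D.rank - 1 - (j : ℕ))

/-- What is used about a simply laced system. -/
structure OrthData (D : ChevalleyDatum) : Prop where
  self : ∀ r < D.nroots, ip D r r = 2
  symm : ∀ r < D.nroots, ∀ s < D.nroots, ip D r s = ip D s r
  zero : ∀ r < D.nroots, ∀ s < D.nroots, ip D r s = 0 → D.commTerms r s = [] ∧ s ≠ D.neg r
  none : ∀ r < D.nroots, ∀ s < D.nroots, half D ≤ r → half D ≤ s → r ≠ s → ip D r s ≠ -1 →
    D.commTerms r s = [] ∧ (ip D r s = 0 ∨ ip D r s = 1)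
  one : ∀ r < D.nroots, ∀ s < D.nroots, half D ≤ r → half D ≤ s → ip D r s = -1 →
    ∃ m c, D.commTerms r s = [(m, c, 1, 1)] ∧ c % 2 ≠ 0 ∧ half D ≤ m ∧ m < D.nroots ∧
      fv D m = fv D r + fv D s ∧ ∀ j : Fin D.rank, D.cartan j m = D.cartan j r + D.cartan j s
  diff : ∀ k < D.nroots, ∀ s < D.nroots, half D ≤ k → k < s → ip D k s = 1 →
    ∃ a, half D ≤ a ∧ a < D.nroots ∧ fv D s = fv D a + fv D k ∧ ip D a k = -1
  mono : ∀ r < D.nroots, ∀ s < D.nroots, r < s → fv D r < fv D s
  pos : ∀ r < D.nroots, half D ≤ r → 0 < fv D r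
  refl : ∀ i : Fin D.rank, ∀ r < D.nroots, D.reflectRoot i r < D.nroots ∧
    (∀ j : Fin D.rank,
      coef D (D.reflectRoot i r) j = coef D r j - if (j : ℕ) = i then D.cartan i r else 0) ∧
    (∀ j : Fin D.rank, D.cartan j (D.reflectRoot i r) =
      D.cartan j r - D.cartan i r * D.cartan j (D.simple i)) ∧
    ip D r (D.simple i) = D.cartan i r
  simple : ∀ i : Fin D.rank, D.simple i < D.nroots ∧ D.cartan i (D.simple i) = 2

namespace OrthData

variable {D : ChevalleyDatum} (hO : OrthData D)
include hO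

theorem fv_inj {r s : ℕ} (hr : r < D.nroots) (hs : s < D.nroots) (h : fv D r = fv D s) : r = s := by
  rcases Nat.lt_trichotomy r s with h1 | h1 | h1
  · exact absurd h (hO.mono r hr s hs h1).ne
  · exact h1
  · exact absurd h.symm (hO.mono s hs r hr h1).ne

theorem lt_of_fv {r s : ℕ} (hr : r < D.nroots) (hs : s < D.nroots) (h : fv D r < fv D s) :
    r < s := by
  rcases Nat.lt_trichotomy r s with h1 | h1 | h1
  · exact h1
  · exact absurd (h1 ▸ h) (lt_irrefl _)
  · exact absurd (hO.mono s hs r hr h1) (not_lt.2 h.le)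

omit hO in
theorem ip_add {r s m : ℕ} (h : ∀ j : Fin D.rank, D.cartan j m = D.cartan j r + D.cartan j s)
    (p : ℕ) : ip D p m = ip D p r + ip D p s := by
  simp only [ip, h, mul_add, Finset.sum_add_distrib]

theorem ip_refl (i : Fin D.rank) {r s : ℕ} (hr : r < D.nroots) (hs : s < D.nroots) :
    ip D (D.reflectRoot i r) (D.reflectRoot i s) = ip D r s := by
  obtain ⟨-, h1, -, h3⟩ := hO.refl i r hr
  obtain ⟨-, -, h2, -⟩ := hO.refl i s hs
  have h4 := (hO.simple i).2
  simp only [ip] at h3
  simp only [ip, h1, h2]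
  rw [Finset.sum_congr rfl (fun (j : Fin D.rank) _ => show
    (coef D r j - if (j : ℕ) = i then D.cartan i r else 0) *
      (D.cartan j s - D.cartan i s * D.cartan j (D.simple i)) =
    coef D r j * D.cartan j s - D.cartan i s * (coef D r j * D.cartan j (D.simple i)) -
      if j = i then D.cartan i r * (D.cartan j s - D.cartan i s * D.cartan j (D.simple i)) else 0 by
      by_cases h : j = i
      · subst h; rw [if_pos rfl, if_pos rfl]; ring
      · rw [if_neg (fun e => h (Fin.ext e)), if_neg h]; ring)]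
  rw [Finset.sum_sub_distrib, Finset.sum_sub_distrib, Finset.sum_ite_eq', if_pos (Finset.mem_univ _),
    ← Finset.mul_sum, h3, h4]
  ring

theorem refl_fix (i : Fin D.rank) {r : ℕ} (hr : r < D.nroots) (h : D.cartan i r = 0) :
    D.reflectRoot i r = r := by
  obtain ⟨h0, h1, -, -⟩ := hO.refl i r hr
  refine hO.fv_inj h0 hr ?_
  simp only [fv, h1, h, ite_self, sub_zero]

theorem refl_lt (i : Fin D.rank) {r : ℕ} (hr : r < D.nroots) (h : D.cartan i r < 0) :
    r < D.reflectRoot i r := by
  obtain ⟨h0, h1, -, -⟩ := hO.refl i r hr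
  refine hO.lt_of_fv hr h0 ?_
  simp only [fv, h1, sub_mul, Finset.sum_sub_distrib]
  have : (∑ j : Fin D.rank, (if (j : ℕ) = i then D.cartan i r else 0) *
      (32 : ℤ) ^ (D.rank - 1 - (j : ℕ))) < 0 := by
    rw [Finset.sum_eq_single i (fun b _ hb => by rw [if_neg fun e => hb (Fin.ext e), zero_mul])
      (fun hn => absurd (Finset.mem_univ i) hn), if_pos rfl]
    exact mul_neg_of_neg_of_pos h (pow_pos (by norm_num) _)
  linarith

end OrthData

end OrthInvol

end Cfsg.Agent.Chev
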