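import Cfsg.Agent.Chev.OrthInvol.Rank

/-!
Classes of involutions from the certificates.
-/

set_option autoImplicit false

namespace Cfsg.Agent.Chev

open Cfsg.Lie

universe u

namespace OrthInvol

variable {D : ChevalleyDatum} {C : Cert} {F : Type u} [Field F] [CharP F 2] (hF : Facts.{u} D)

/-- All that is checked on the representatives. -/
structure RepData (D : ChevalleyDatum) (C : Cert) (reps : List (List ℕ))
    (rk : List (List ℕ × List (ℕ × ℕ × ℕ))) (ranks : List ℕ) : Prop where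
  hC : Checks D C
  hO : OrthData D
  len : ranks.length = reps.length
  pos : ∀ k < reps.length, ranks.getD k 0 ≠ 0
  nodup : ∀ i < reps.length, ∀ j < reps.length, ranks.getD i 0 = ranks.getD j 0 → i = j
  chk : allBelow (fun k => force k fun k =>
    chkRank D C (reps.getD k []) (rk.getD k ([], [])).1 (rk.getD k ([], [])).2 &&
    chkOrthL D C (reps.getD k []) &&
    Nat.beq (rk.getD k ([], [])).2.length (ranks.getD k 0)) reps.length = true

namespace RepData

variable {reps : List (List ℕ)} {rk : List (List ℕ × List (ℕ × ℕ × ℕ))} {ranks : List ℕ}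
  (hR : RepData D C reps rk ranks)
include hR

theorem spec {k : ℕ} (hk : k < reps.length) :
    Orth D (reps.getD k []) ∧
      (((XL hF (reps.getD k []) : GL D.Idx F) : Matrix D.Idx D.Idx F) - 1).rank = ranks.getD k 0 := by
  have h := hR.chk
  simp only [allBelow_iff, force_eq, Bool.and_eq_true, nbeq_iff] at h
  obtain ⟨⟨h1, h2⟩, h3⟩ := h k hk
  exact ⟨orth_of_chk hR.hC _ h2, (rank_eq_of_chk hF hR.hC h1).trans h3⟩

theorem ne_one {k : ℕ} (hk : k < reps.length) : XL hF (reps.getD k []) (F := F) ≠ 1 := by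
  intro e
  have := (hR.spec hF hk (F := F)).2
  rw [e, Units.val_one, sub_self, Matrix.rank_zero] at this
  exact hR.pos k hk this.symm

theorem sq_one {k : ℕ} (hk : k < reps.length) :
    XL hF (reps.getD k []) (F := F) * XL hF (reps.getD k []) = 1 := by
  have key : ∀ L : List ℕ, Orth D L → XL hF L (F := F) * XL hF L = 1 := by
    intro L
    induction L with
    | nil => intro _; simp [XL, wordG]
    | cons r L ih =>
      intro h
      have e : XL hF (r :: L) (F := F) = xG hF r 1 * XL hF L := by simp [XL, wordG_cons]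
      have hc : Commute (xG hF r (1 : F)) (XL hF L) := by
        refine Commute.list_prod_right _ _ fun g hg => ?_
        simp only [List.map_map, List.mem_map, Function.comp_apply] at hg
        obtain ⟨s, hs, rfl⟩ := hg
        exact commute_zero hF hR.hO (h.1 r (List.mem_cons_self ..))
          (h.1 s (List.mem_cons_of_mem _ hs)) ((List.pairwise_cons.1 h.2).1 s hs) _ _
      rw [e, hc.symm.mul_mul_mul_comm, xG_sq_two, one_mul,
        ih ⟨fun s hs => h.1 s (List.mem_cons_of_mem _ hs), (List.pairwise_cons.1 h.2).2⟩]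
  exact key _ (hR.spec hF hk (F := F)).1

theorem mem {k : ℕ} (hk : k < reps.length) : XL hF (reps.getD k []) (F := F) ∈ D.group F :=
  XL_mem hF (hR.spec hF hk (F := F)).1.1

theorem orderOf_eq {k : ℕ} (hk : k < reps.length) : orderOf (XL hF (reps.getD k []) : GL D.Idx F) = 2 := by
  rw [orderOf_eq_prime_iff, pow_two]
  exact ⟨hR.sq_one hF hk, hR.ne_one hF hk⟩

theorem eq_of_cj {i j : ℕ} (hi : i < reps.length) (hj : j < reps.length)
    (h : CjS (D.group F) (XL hF (reps.getD i []) : GL D.Idx F) (XL hF (reps.getD j []))) : i = j := by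
  have := rank_conj h
  rw [(hR.spec hF hi).2, (hR.spec hF hj).2] at this
  exact hR.nodup i hi j hj this

include hF in
/-- The number of classes. -/
theorem class_count [Fintype F] {tab : List (List ℕ × Act)} {fuel : ℕ}
    (hT : chkTree D C reps tab fuel [] = true) :
    (ConjClasses.mk '' {g : ↥(D.group F) | orderOf g = 2}).ncard = reps.length := by
  classical
  set f : Fin reps.length → ConjClasses ↥(D.group F) := fun k =>
    ConjClasses.mk ⟨XL hF (reps.getD k []), hR.mem hF k.2⟩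
  have hinj : Function.Injective f := by
    intro i j e
    obtain ⟨c, hc⟩ := isConj_iff.1 (ConjClasses.mk_eq_mk_iff_isConj.1 e)
    have hc' := congrArg Subtype.val hc
    simp only [Subgroup.coe_mul, Subgroup.coe_inv] at hc'
    exact Fin.ext (hR.eq_of_cj hF i.2 j.2 ⟨(c : GL D.Idx F), c.2, hc'⟩)
  have key : ConjClasses.mk '' {g : ↥(D.group F) | orderOf g = 2} = Set.range f := by
    ext Cl
    constructor
    · rintro ⟨g, hg, rfl⟩
      replace hg : orderOf g = 2 := hg
      rw [← orderOf_submonoid g] at hg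
      obtain ⟨h1, h2⟩ := orderOf_eq_prime_iff.1 hg
      rw [pow_two] at h1
      obtain ⟨k, hk, e, he, he'⟩ := invol_reps hF hR.hO hR.hC hT g.2 h1 h2
      exact ⟨⟨k, hk⟩, (ConjClasses.mk_eq_mk_iff_isConj.2 (isConj_iff.2 ⟨⟨e, he⟩, Subtype.ext he'⟩)).symm⟩
    · rintro ⟨k, rfl⟩
      refine ⟨⟨XL hF (reps.getD k []), hR.mem hF k.2⟩, ?_, rfl⟩
      show orderOf _ = 2
      rw [← orderOf_submonoid]
      exact hR.orderOf_eq hF k.2
  rw [key, ← Set.image_univ, Set.ncard_image_of_injective _ hinj, Set.ncard_univ, Nat.card_fin]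

/-- The three clauses on a list of matrices of representatives. -/
theorem classes [Fintype F] {tab : List (List ℕ × Act)} {fuel : ℕ}
    (hT : chkTree D C reps tab fuel [] = true) (Ms : List (Matrix D.Idx D.Idx F))
    (hMs : Ms = (List.range reps.length).map fun k =>
      ((XL hF (reps.getD k []) : GL D.Idx F) : Matrix D.Idx D.Idx F)) :
    (∀ y : GL D.Idx F, (y : Matrix D.Idx D.Idx F) ∈ Ms → y ∈ D.group F ∧ orderOf y = 2) ∧
    (∀ g ∈ D.group F, orderOf g = 2 → ∃ y ∈ D.group F, (y : Matrix D.Idx D.Idx F) ∈ Ms ∧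
      ∃ h ∈ D.group F, h * g * h⁻¹ = y) ∧
    (∀ y₁ ∈ D.group F, ∀ y₂ ∈ D.group F, (y₁ : Matrix D.Idx D.Idx F) ∈ Ms →
      (y₂ : Matrix D.Idx D.Idx F) ∈ Ms → (∃ h ∈ D.group F, h * y₁ * h⁻¹ = y₂) →
      (y₁ : Matrix D.Idx D.Idx F) = (y₂ : Matrix D.Idx D.Idx F)) := by
  have hmem : ∀ y : GL D.Idx F, (y : Matrix D.Idx D.Idx F) ∈ Ms →
      ∃ k < reps.length, y = XL hF (reps.getD k []) := by
    intro y hy
    rw [hMs, List.mem_map] at hy
    obtain ⟨k, hk, e⟩ := hy
    exact ⟨k, List.mem_range.1 hk, Units.ext e.symm⟩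
  refine ⟨fun y hy => ?_, fun g hg ho => ?_, fun y₁ _ y₂ _ h1 h2 hc => ?_⟩
  · obtain ⟨k, hk, rfl⟩ := hmem y hy
    exact ⟨hR.mem hF hk, hR.orderOf_eq hF hk⟩
  · obtain ⟨h1, h2⟩ := orderOf_eq_prime_iff.1 ho
    rw [pow_two] at h1
    obtain ⟨k, hk, e, he, he'⟩ := invol_reps hF hR.hO hR.hC hT hg h1 h2
    refine ⟨_, hR.mem hF hk, ?_, e, he, he'⟩
    rw [hMs, List.mem_map]
    exact ⟨k, List.mem_range.2 hk, rfl⟩
  · obtain ⟨i, hi, rfl⟩ := hmem y₁ h1
    obtain ⟨j, hj, rfl⟩ := hmem y₂ h2
    rw [hR.eq_of_cj hF hi hj hc]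

end RepData

end OrthInvol

end Cfsg.Agent.Chev
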