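import Cfsg.Agent.Chev.OrthInvol.Data
import Cfsg.Agent.Chev.BNpair
import Mathlib.GroupTheory.QuotientGroup.Basic
import Mathlib.Algebra.CharP.Lemmas

/-!
An involution of `U` is conjugate to a product over pairwise orthogonal roots.
-/

set_option autoImplicit false

namespace Cfsg.Agent.Chev

open Cfsg.Lie

universe u

namespace OrthInvol

variable {D : ChevalleyDatum} {F : Type u} [Field F] [CharP F 2] (hF : Facts.{u} D)

theorem ct_neg (a : F) : -a = a := CharTwo.neg_eq a

theorem xG_inv_two (r : ℕ) (t : F) : (xG hF r t)⁻¹ = xG hF r t := by rw [xG_inv, ct_neg]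

theorem xG_sq_two (r : ℕ) (t : F) : xG hF r t * xG hF r t = 1 := by
  rw [xG_mul, CharTwo.add_self_eq_zero, xG_zero]

variable (hO : OrthData D)

include hO in
theorem commute_zero {r s : ℕ} (hr : r < D.nroots) (hs : s < D.nroots) (h : ip D r s = 0) (t v : F) :
    Commute (xG hF r t) (xG hF s v) := by
  obtain ⟨h1, h2⟩ := hO.zero r hr s hs h
  have hne : s ≠ r := fun e => by
    subst e
    rw [hO.self s hr] at h
    exact absurd h (by norm_num)
  have := xG_comm hF hr hs hne h2 t v
  rw [ChevalleyDatum.commWord, h1] at this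
  exact (this.trans (by simp [wordG])).symm

include hO in
theorem commute_pos {r s : ℕ} (hr : r < D.nroots) (hs : s < D.nroots) (hpr : half D ≤ r)
    (hps : half D ≤ s) (h : ip D r s ≠ -1) (t v : F) :
    Commute (xG hF r t) (xG hF s v) := by
  rcases eq_or_ne r s with rfl | hne
  · exact (xG_mul hF r t v).trans (by rw [add_comm]; exact (xG_mul hF r v t).symm)
  have hn : s ≠ D.neg r := fun e => by
    have := (neg_lt_half_iff hF hr).2 hpr
    omega
  have := xG_comm hF hr hs hne.symm hn t v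
  rw [ChevalleyDatum.commWord, (hO.none r hr s hs hpr hps hne h).1] at this
  exact (this.trans (by simp [wordG])).symm

include hO in
theorem comm_one {r s : ℕ} (hr : r < D.nroots) (hs : s < D.nroots) (hpr : half D ≤ r)
    (hps : half D ≤ s) (h : ip D r s = -1) :
    ∃ m, half D ≤ m ∧ m < D.nroots ∧ fv D m = fv D r + fv D s ∧
      (∀ p, ip D p m = ip D p r + ip D p s) ∧
      ∀ t v : F, xG hF s v * xG hF r t = xG hF r t * xG hF s v * xG hF m (t * v) := by
  obtain ⟨m, c, h1, h2, h3, h4, h5, h6⟩ := hO.one r hr s hs hpr hps h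
  refine ⟨m, h3, h4, h5, OrthData.ip_add h6, fun t v => ?_⟩
  have hne : s ≠ r := fun e => by
    subst e
    rw [hO.self s hr] at h
    exact absurd h (by norm_num)
  have hn : s ≠ D.neg r := fun e => by
    have := (neg_lt_half_iff hF hr).2 hpr
    omega
  have hc : ((c : ℤ) : F) = 1 := by
    have h0 : ((c - 1 : ℤ) : F) = 0 :=
      (CharP.intCast_eq_zero_iff F 2 _).2 (Int.dvd_of_emod_eq_zero (by omega))
    push_cast at h0
    exact sub_eq_zero.1 h0
  rw [xG_comm hF hr hs hne hn t v, ChevalleyDatum.commWord, h1]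
  simp [wordG, hc, ct_neg]

include hO in
/-- Conjugating a root element by another. -/
theorem conj_root {a s : ℕ} (ha : a < D.nroots) (hs : s < D.nroots) (hpa : half D ≤ a)
    (hps : half D ≤ s) (v c : F) :
    (xG hF a v * xG hF s c * (xG hF a v)⁻¹ = xG hF s c ∧ ip D s a ≠ -1) ∨
      ∃ m, ip D s a = -1 ∧ half D ≤ m ∧ m < D.nroots ∧ fv D m = fv D s + fv D a ∧
        (∀ p, ip D p m = ip D p s + ip D p a) ∧
        xG hF a v * xG hF s c * (xG hF a v)⁻¹ = xG hF s c * xG hF m (c * v) := by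
  by_cases h : ip D s a = -1
  · obtain ⟨m, h1, h2, h3, h4, h5⟩ := comm_one hF hO hs ha hps hpa h (F := F)
    refine Or.inr ⟨m, h, h1, h2, h3, h4, ?_⟩
    have hc : ip D a m ≠ -1 := by
      rw [h4, hO.self a ha, hO.symm a ha s hs, h]
      norm_num
    rw [h5, mul_assoc _ _ (xG hF a v)⁻¹,
      ((commute_pos hF hO ha h2 hpa h1 hc v (c * v)).inv_left).eq.symm]
    group
  · refine Or.inl ⟨?_, h⟩
    rw [(commute_pos hF hO ha hs hpa hps (by rwa [hO.symm a ha s hs]) v c).eq, mul_inv_cancel_right]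

/-- Root elements of a set of roots with index at least `k`. -/
def GS (S : ℕ → Prop) (k : ℕ) : Subgroup (GL D.Idx F) :=
  Subgroup.closure {g | ∃ (r : ℕ) (t : F), k ≤ r ∧ r < D.nroots ∧ S r ∧ g = xG hF r t}

theorem x_mem_GS {S : ℕ → Prop} {k r : ℕ} (h1 : k ≤ r) (h2 : r < D.nroots) (h3 : S r) (t : F) :
    xG hF r t ∈ GS hF S k :=
  Subgroup.subset_closure ⟨r, t, h1, h2, h3, rfl⟩

theorem GS_mono {S S' : ℕ → Prop} (h : ∀ r, S r → S' r) {k k' : ℕ} (hk : k' ≤ k) :
    GS hF S k (F := F) ≤ GS hF S' k' :=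
  (Subgroup.closure_le _).2 fun _ ⟨r, t, h1, h2, h3, e⟩ =>
    e ▸ x_mem_GS hF (hk.trans h1) h2 (h r h3) t

/-- The roots orthogonal to a list. -/
def InS (D : ChevalleyDatum) (R : List ℕ) (r : ℕ) : Prop := ∀ p ∈ R, ip D p r = 0

/-- Coordinates supported in a set. -/
def SuppIn (D : ChevalleyDatum) (S : ℕ → Prop) (k : ℕ) (t : ℕ → F) : Prop :=
  ∀ r, k ≤ r → r < D.nroots → t r ≠ 0 → S r

theorem prodFrom_mem_GS {S : ℕ → Prop} {t : ℕ → F} : ∀ (d k : ℕ), D.nroots - k = d →
    SuppIn D S k t → prodFrom hF k t ∈ GS hF S k := by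
  intro d
  induction d with
  | zero =>
    intro k hd _
    rw [prodFrom_top hF (by omega)]
    exact Subgroup.one_mem _
  | succ d ih =>
    intro k hd hs
    rw [prodFrom_succ hF (by omega)]
    refine Subgroup.mul_mem _ ?_ (GS_mono hF (fun _ h => h) (Nat.le_succ k)
      (ih (k + 1) (by omega) fun r h1 h2 h3 => hs r (by omega) h2 h3))
    by_cases h : t k = 0
    · rw [h, xG_zero]
      exact Subgroup.one_mem _
    · exact x_mem_GS hF le_rfl (by omega) (hs k le_rfl (by omega) h) _

include hO in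
theorem GS_conj_mem {R : List ℕ} {a : ℕ} (ha : a < D.nroots) (hpa : half D ≤ a)
    (hS : InS D R a) (v : F) {k : ℕ} (hk : half D ≤ k) {g : GL D.Idx F}
    (hg : g ∈ GS hF (InS D R) k) :
    xG hF a v * g * (xG hF a v)⁻¹ ∈ GS hF (InS D R) k := by
  have key : GS hF (InS D R) k ≤
      (GS hF (InS D R) k (F := F)).comap (MulAut.conj (xG hF a v)).toMonoidHom := by
    refine (Subgroup.closure_le _).2 ?_
    rintro _ ⟨r, t, h1, h2, h3, rfl⟩
    show xG hF a v * xG hF r t * (xG hF a v)⁻¹ ∈ GS hF (InS D R) k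
    rcases conj_root hF hO ha h2 hpa (hk.trans h1) v t with ⟨e, -⟩ | ⟨m, -, hm1, hm2, hm3, hm4, e⟩
    · rw [e]
      exact x_mem_GS hF h1 h2 h3 t
    · rw [e]
      refine Subgroup.mul_mem _ (x_mem_GS hF h1 h2 h3 t) (x_mem_GS hF ?_ hm2 ?_ _)
      · have hpos := hO.pos a ha hpa
        exact h1.trans (hO.lt_of_fv h2 hm2 (by omega)).le
      · intro p hp
        rw [hm4, h3 p hp, hS p hp, add_zero]
  exact key hg

include hO in
theorem exists_supp (R : List ℕ) : ∀ (d k : ℕ), D.nroots - k = d → half D ≤ k →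
    ∀ g ∈ GS hF (InS D R) k (F := F), ∃ t, g = prodFrom hF k t ∧ SuppIn D (InS D R) k t := by
  intro d
  induction d with
  | zero =>
    intro k hd _ g hg
    refine ⟨0, ?_, fun r _ _ h => absurd rfl h⟩
    rw [prodFrom_top hF (by omega)]
    have : ({g | ∃ (r : ℕ) (t : F), k ≤ r ∧ r < D.nroots ∧ InS D R r ∧ g = xG hF r t} :
        Set (GL D.Idx F)) = ∅ := by
      ext x
      simp only [Set.mem_setOf_eq, Set.mem_empty_iff_false, iff_false]
      rintro ⟨r, -, h1, h2, -⟩
      omega
    rwa [GS, this, Subgroup.closure_empty, Subgroup.mem_bot] at hg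
  | succ d ih =>
    intro k hd hk g hg
    have hkn : k < D.nroots := by omega
    by_cases hS : InS D R k
    · have hX : (xHom hF k (F := F)).range ≤
          Subgroup.normalizer (GS hF (InS D R) (k + 1) (F := F) : Set (GL D.Idx F)) := by
        rintro _ ⟨t, rfl⟩
        rw [Subgroup.mem_normalizer_iff]
        intro y
        refine ⟨fun hy => GS_conj_mem hF hO hkn hk hS _ (by omega) hy, fun hy => ?_⟩
        have := GS_conj_mem hF hO hkn hk hS t.toAdd (by omega) hy
        simp only [xHom, MonoidHom.coe_mk, OneHom.coe_mk, xG_inv_two, ← mul_assoc, xG_sq_two,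
          one_mul] at this
        rwa [mul_assoc, xG_sq_two, mul_one] at this
      have hle : GS hF (InS D R) k (F := F) ≤
          (xHom hF k (F := F)).range ⊔ GS hF (InS D R) (k + 1) := by
        refine (Subgroup.closure_le _).2 ?_
        rintro x ⟨r, t, h1, h2, h3, rfl⟩
        rcases Nat.lt_or_eq_of_le h1 with h | rfl
        · exact Subgroup.mem_sup_right (x_mem_GS hF h h2 h3 t)
        · exact Subgroup.mem_sup_left ⟨Multiplicative.ofAdd t, rfl⟩
      have hmem : g ∈ ((xHom hF k (F := F)).range ⊔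
          GS hF (InS D R) (k + 1) : Subgroup (GL D.Idx F)) := hle hg
      rw [← SetLike.mem_coe, Subgroup.coe_mul_of_left_le_normalizer_right _ _ hX,
        Set.mem_mul] at hmem
      obtain ⟨_, ⟨a, rfl⟩, y, hy, rfl⟩ := hmem
      obtain ⟨t, rfl, ht⟩ := ih (k + 1) (by omega) (by omega) y hy
      refine ⟨fun r => if r = k then a.toAdd else t r, ?_, ?_⟩
      · rw [prodFrom_succ hF hkn, if_pos rfl]
        congr 1
        exact prodFrom_congr hF fun r hr _ => by rw [if_neg (by omega)]
      · intro r h1 h2 h3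
        rcases eq_or_ne r k with rfl | h
        · exact hS
        · simp only [if_neg h] at h3
          exact ht r (by omega) h2 h3
    · have hle : GS hF (InS D R) k (F := F) ≤ GS hF (InS D R) (k + 1) := by
        refine (Subgroup.closure_le _).2 ?_
        rintro x ⟨r, t, h1, h2, h3, rfl⟩
        refine x_mem_GS hF ?_ h2 h3 t
        rcases Nat.lt_or_eq_of_le h1 with h | rfl
        · exact h
        · exact absurd h3 hS
      obtain ⟨t, rfl, ht⟩ := ih (k + 1) (by omega) (by omega) g (hle hg)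
      refine ⟨fun r => if r = k then 0 else t r, ?_, ?_⟩
      · rw [prodFrom_succ hF hkn, if_pos rfl, xG_zero, one_mul]
        exact prodFrom_congr hF fun r hr _ => by rw [if_neg (by omega)]
      · intro r h1 h2 h3
        rcases eq_or_ne r k with rfl | h
        · exact absurd (if_pos rfl) h3
        · simp only [if_neg h] at h3
          exact ht r (by omega) h2 h3

/-- The roots of index at least `j`. -/
def UN (j : ℕ) : Subgroup ↥(Subgroup.closure (rootsFrom hF (half D) (F := F))) :=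
  (Subgroup.closure (rootsFrom hF (max j (half D)))).subgroupOf _

include hO in
theorem UN_normal (j : ℕ) : (UN hF j (F := F)).Normal := by
  constructor
  intro n hn g
  have key : Subgroup.closure (rootsFrom hF (half D) (F := F)) ≤
      Subgroup.normalizer
        (Subgroup.closure (rootsFrom hF (max j (half D)) (F := F)) : Set (GL D.Idx F)) := by
    refine (Subgroup.closure_le _).2 ?_
    rintro _ ⟨r, t, h1, h2, rfl⟩
    have step : ∀ v : F, ∀ x ∈ (rootsFrom hF (max j (half D)) : Set (GL D.Idx F)),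
        xG hF r v * x * (xG hF r v)⁻¹ ∈ Subgroup.closure (rootsFrom hF (max j (half D))) := by
      rintro v x ⟨s, a, hks, hs, rfl⟩
      have hps : half D ≤ s := (le_max_right _ _).trans hks
      rcases conj_root hF hO h2 hs h1 hps v a with ⟨e, -⟩ | ⟨m, -, -, hm2, hm3, -, e⟩
      · rw [e]
        exact Subgroup.subset_closure ⟨s, a, hks, hs, rfl⟩
      · rw [e]
        have := hO.pos r h2 h1
        exact Subgroup.mul_mem _ (Subgroup.subset_closure ⟨s, a, hks, hs, rfl⟩)
          (Subgroup.subset_closure ⟨m, _, hks.trans (hO.lt_of_fv hs hm2 (by omega)).le, hm2, rfl⟩)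
    refine mem_normalizer_closure (fun x hx => step t x hx) fun x hx => ?_
    have := step (-t) x hx
    rwa [← xG_inv, inv_inv] at this
  rw [UN, Subgroup.mem_subgroupOf] at hn ⊢
  exact ((Subgroup.mem_normalizer_iff.1 (key g.2)) _).1 hn

/-- A root element inside `U`. -/
def uX (r : ℕ) (h : half D ≤ r ∧ r < D.nroots) (t : F) :
    ↥(Subgroup.closure (rootsFrom hF (half D) (F := F))) :=
  ⟨xG hF r t, Subgroup.subset_closure ⟨r, t, h.1, h.2, rfl⟩⟩

/-- An ordered product inside `U`. -/
def uP (k : ℕ) (hk : half D ≤ k) (t : ℕ → F) :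
    ↥(Subgroup.closure (rootsFrom hF (half D) (F := F))) :=
  ⟨prodFrom hF k t, Subgroup.closure_mono
    (show rootsFrom hF k (F := F) ⊆ rootsFrom hF (half D) from
      fun _ ⟨r, v, h1, h2, e⟩ => ⟨r, v, hk.trans h1, h2, e⟩)
    (prodFrom_mem hF k t)⟩

theorem uP_succ {k : ℕ} (hk : half D ≤ k) (hkn : k < D.nroots) (t : ℕ → F) :
    uP hF k hk t = uX hF k ⟨hk, hkn⟩ (t k) * uP hF (k + 1) (by omega) t :=
  Subtype.ext (prodFrom_succ hF hkn t)

theorem uP_top {k : ℕ} (hk : half D ≤ k) (hkn : D.nroots ≤ k) (t : ℕ → F) : uP hF k hk t = 1 :=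
  Subtype.ext (prodFrom_top hF hkn t)

theorem uX_zero {r : ℕ} (h : half D ≤ r ∧ r < D.nroots) : uX hF r h (0 : F) = 1 :=
  Subtype.ext (xG_zero hF r)

theorem uX_add {r : ℕ} (h : half D ≤ r ∧ r < D.nroots) (t v : F) :
    uX hF r h t * uX hF r h v = uX hF r h (t + v) :=
  Subtype.ext (xG_mul hF r t v)

theorem uX_mem {r j : ℕ} (h : half D ≤ r ∧ r < D.nroots) (hj : j ≤ r) (t : F) :
    uX hF r h t ∈ UN hF j := by
  rw [UN, Subgroup.mem_subgroupOf]
  exact Subgroup.subset_closure ⟨r, t, max_le hj h.1, h.2, rfl⟩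

section Quot

variable {j : ℕ} [(UN hF j (F := F)).Normal]

local notation "π" => QuotientGroup.mk' (UN hF j)

include hO in
theorem pi_comm {r s : ℕ} (hr : half D ≤ r ∧ r < D.nroots) (hs : half D ≤ s ∧ s < D.nroots)
    (h : ∀ m, m < D.nroots → fv D m = fv D r + fv D s → j ≤ m) (t v : F) :
    Commute (π (uX hF r hr t)) (π (uX hF s hs v)) := by
  by_cases hip : ip D r s = -1
  · obtain ⟨m, h1, h2, h3, -, h5⟩ := comm_one hF hO hr.2 hs.2 hr.1 hs.1 hip (F := F)
    have e : uX hF s hs v * uX hF r hr t = uX hF r hr t * uX hF s hs v * uX hF m ⟨h1, h2⟩ (t * v) :=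
      Subtype.ext (h5 t v)
    have hz : π (uX hF m ⟨h1, h2⟩ (t * v)) = 1 :=
      (QuotientGroup.eq_one_iff _).2 (uX_mem hF _ (h m h2 h3) _)
    have := congrArg π e
    rw [map_mul, map_mul, map_mul, hz, mul_one] at this
    exact this.symm
  · have e : uX hF r hr t * uX hF s hs v = uX hF s hs v * uX hF r hr t :=
      Subtype.ext (commute_pos hF hO hr.2 hs.2 hr.1 hs.1 hip t v).eq
    show π (uX hF r hr t) * π (uX hF s hs v) = π (uX hF s hs v) * π (uX hF r hr t)
    rw [← map_mul, e, map_mul]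

theorem pi_commute_P (z : ↥(Subgroup.closure (rootsFrom hF (half D) (F := F)))) (u : ℕ → F) :
    ∀ (d k : ℕ) (hk : half D ≤ k), D.nroots - k = d →
    (∀ s (hs : half D ≤ s ∧ s < D.nroots), k ≤ s → u s ≠ 0 →
      Commute (π z) (π (uX hF s hs (u s)))) →
    Commute (π z) (π (uP hF k hk u)) := by
  intro d
  induction d with
  | zero =>
    intro k hk hd _
    rw [uP_top hF hk (by omega), map_one]
    exact Commute.one_right _
  | succ d ih =>
    intro k hk hd h
    rw [uP_succ hF hk (by omega), map_mul]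
    refine Commute.mul_right ?_ (ih (k + 1) (by omega) (by omega) fun s hs h1 h2 => h s hs (by omega) h2)
    by_cases h0 : u k = 0
    · rw [h0, uX_zero, map_one]
      exact Commute.one_right _
    · exact h k ⟨hk, by omega⟩ le_rfl h0

end Quot

theorem pi_split {j : ℕ} (u : ℕ → F) : ∀ (d k : ℕ) (hk : half D ≤ k) (hkj : k ≤ j),
    D.nroots - k = d → j ≤ D.nroots →
    uP hF k hk u = uP hF k hk (fun r => if r < j then u r else 0) *
      uP hF j (hk.trans hkj) u := by
  intro d
  induction d with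
  | zero =>
    intro k hk hkj hd hj
    rw [uP_top hF hk (by omega), uP_top hF hk (by omega), uP_top hF _ (by omega), one_mul]
  | succ d ih =>
    intro k hk hkj hd hj
    rcases Nat.lt_or_eq_of_le hkj with h | rfl
    · rw [uP_succ hF hk (by omega), uP_succ hF hk (by omega) (fun r => if r < j then u r else 0),
        if_pos h, mul_assoc, ← ih (k + 1) (by omega) h (by omega) hj]
    · have : uP hF k hk (fun r => if r < k then u r else 0) = 1 := by
        refine Subtype.ext ?_
        show prodFrom hF k _ = 1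
        rw [prodFrom_congr hF (t' := fun _ => 0) fun r h1 _ => if_neg (by omega)]
        refine List.prod_eq_one fun x hx => ?_
        simp only [List.map_map, List.mem_map, Function.comp_apply] at hx
        obtain ⟨r, -, rfl⟩ := hx
        exact xG_zero hF r
      rw [this, one_mul]

theorem mem_UN_tail {j k : ℕ} (hk : half D ≤ k) (hj : j ≤ k) (u : ℕ → F) :
    uP hF k hk u ∈ UN hF j := by
  rw [UN, Subgroup.mem_subgroupOf]
  refine Subgroup.closure_mono ?_ (prodFrom_mem hF k u)
  rintro _ ⟨r, v, h1, h2, e⟩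
  exact ⟨r, v, (max_le hj hk).trans h1, h2, e⟩

theorem coord_eq {j : ℕ} [(UN hF j (F := F)).Normal] {k : ℕ} (hk : half D ≤ k) (t u : ℕ → F)
    (h : QuotientGroup.mk' (UN hF j) (uP hF k hk t) = QuotientGroup.mk' (UN hF j) (uP hF k hk u)) :
    ∀ r, k ≤ r → r < D.nroots → r < j → t r = u r := by
  intro r h1 h2 h3
  set j' := min j D.nroots with hj'
  have hkj : k ≤ j' := by omega
  have hn := QuotientGroup.eq.1 h
  rw [UN, Subgroup.mem_subgroupOf] at hn
  have hz : ((uP hF j' (hk.trans hkj) t : ↥(Subgroup.closure (rootsFrom hF (half D) (F := F)))) :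
      GL D.Idx F) * (((uP hF k hk t)⁻¹ * uP hF k hk u : _) : GL D.Idx F) ∈
        Subgroup.closure (rootsFrom hF j') := by
    refine Subgroup.mul_mem _ (prodFrom_mem hF j' t) ?_
    refine Subgroup.closure_mono ?_ hn
    rintro _ ⟨s, v, h1, h2, e⟩
    exact ⟨s, v, by omega, h2, e⟩
  obtain ⟨w, hw⟩ := exists_prodFrom hF _ j' rfl (hk.trans hkj) _ hz
  have e : uP hF k hk u = uP hF k hk (fun s => if s < j' then t s else w s) := by
    rw [pi_split hF (fun s => if s < j' then t s else w s) _ k hk hkj rfl (min_le_right _ _)]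
    have e1 : uP hF j' (hk.trans hkj) (fun s => if s < j' then t s else w s) =
        uP hF j' (hk.trans hkj) t * ((uP hF k hk t)⁻¹ * uP hF k hk u) := by
      refine Subtype.ext ?_
      refine Eq.trans ?_ hw.symm
      exact prodFrom_congr hF fun s h1 _ => if_neg (by omega)
    have e2 : uP hF k hk (fun s => if s < j' then (if s < j' then t s else w s) else 0) =
        uP hF k hk (fun s => if s < j' then t s else 0) := by
      congr 1
      funext s
      split_ifs <;> rfl
    rw [e1, e2, ← mul_assoc, ← pi_split hF t _ k hk hkj rfl (min_le_right _ _), mul_inv_cancel_left]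
  have := prodFrom_inj hF _ k rfl hk (congrArg Subtype.val e) r h1 h2
  rw [if_pos (by omega : r < j')] at this
  exact this.symm

include hO in
theorem pi_add {j : ℕ} [(UN hF (j + 1) (F := F)).Normal] (hj : half D ≤ j ∧ j < D.nroots) (c : F)
    (u : ℕ → F) : ∀ (d k : ℕ) (hk : half D ≤ k), k ≤ j → D.nroots - k = d →
    QuotientGroup.mk' (UN hF (j + 1)) (uX hF j hj c * uP hF k hk u) =
      QuotientGroup.mk' (UN hF (j + 1)) (uP hF k hk fun r => if r = j then u r + c else u r) := by
  intro d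
  induction d with
  | zero => intro k hk hkj hd; omega
  | succ d ih =>
    intro k hk hkj hd
    rw [uP_succ hF hk (by omega), uP_succ hF hk (by omega) (fun r => if r = j then u r + c else u r)]
    rcases Nat.lt_or_eq_of_le hkj with h | rfl
    · rw [if_neg (by omega : ¬k = j), map_mul, map_mul, ← mul_assoc,
        (pi_comm hF hO hj ⟨hk, by omega⟩ (fun m hm e => ?_) c (u k)).eq, mul_assoc, ← map_mul,
        ih (k + 1) (by omega) h (by omega), map_mul]
      have := hO.pos k (by omega) hk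
      exact hO.lt_of_fv hj.2 hm (by omega)
    · rw [if_pos rfl, ← mul_assoc, uX_add hF, add_comm c]
      congr 2
      exact Subtype.ext (prodFrom_congr hF fun r hr _ => by rw [if_neg (by omega)])

/-- Conjugate by an element of a subgroup. -/
def CjS (H : Subgroup (GL D.Idx F)) (g h : GL D.Idx F) : Prop := ∃ e ∈ H, e * g * e⁻¹ = h

include hO in
theorem clear_step {R : List ℕ} {k j : ℕ} (hk : half D ≤ k) (hkj : k < j) (hj : j < D.nroots)
    {t : ℕ → F} (hs : SuppIn D (InS D R) k t) (htk : t k ≠ 0) (htj : t j ≠ 0) (hip : ip D k j = 1) :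
    ∃ t', CjS (GS hF (InS D R) (half D)) (prodFrom hF k t) (prodFrom hF k t') ∧
      SuppIn D (InS D R) k t' ∧ (∀ r, k ≤ r → r < j → t' r = t r) ∧ t' j = 0 := by
  obtain ⟨a, hpa, ha, hfa, hak⟩ := hO.diff k (by omega) j hj hk hkj hip
  have hka : ip D k a = -1 := by rw [hO.symm k (by omega) a ha]; exact hak
  obtain ⟨m, hm1, hm2, hm3, hm4, hm5⟩ :=
    comm_one hF hO (r := k) (s := a) (by omega) ha hk hpa hka (F := F)
  have hmj : m = j := hO.fv_inj hm2 hj (by rw [hm3, hfa]; ring)
  subst hmj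
  have hSa : InS D R a := by
    intro p hp
    have := hs k le_rfl (by omega) htk p hp
    have h2 := hs m hkj.le hm2 htj p hp
    rw [hm4] at h2
    omega
  obtain ⟨v, hv⟩ : ∃ v, v = t m / t k := ⟨_, rfl⟩
  obtain ⟨t', ht', hs'⟩ := exists_supp hF hO R _ k rfl hk _
    (GS_conj_mem hF hO ha hpa hSa v hk (prodFrom_mem_GS hF _ k rfl hs))
  refine ⟨t', ⟨_, x_mem_GS hF hpa ha hSa v, ht'⟩, hs', ?_⟩
  haveI := UN_normal hF hO (m + 1) (F := F)
  set π := QuotientGroup.mk' (UN hF (m + 1) (F := F))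
  have key : π (uP hF k hk t') = π (uP hF k hk fun r => if r = m then t r + t k * v else t r) := by
    have e1 : uP hF k hk t' = uX hF a ⟨hpa, ha⟩ v * uP hF k hk t * (uX hF a ⟨hpa, ha⟩ v)⁻¹ :=
      Subtype.ext ht'.symm
    have hc : Commute (π (uX hF a ⟨hpa, ha⟩ v)) (π (uP hF (k + 1) (by omega) t)) := by
      refine pi_commute_P hF _ _ _ _ _ rfl fun s hs' h1 _ => pi_comm hF hO _ _ (fun m' hm' e => ?_) _ _
      have := hO.mono k (by omega) s hs'.2 h1
      exact hO.lt_of_fv hm2 hm' (by omega)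
    have e2 : uX hF a ⟨hpa, ha⟩ v * uX hF k ⟨hk, by omega⟩ (t k) =
        uX hF k ⟨hk, by omega⟩ (t k) * uX hF a ⟨hpa, ha⟩ v * uX hF m ⟨hm1, hm2⟩ (t k * v) :=
      Subtype.ext (hm5 (t k) v)
    have hc2 : Commute (π (uX hF a ⟨hpa, ha⟩ v)) (π (uX hF m ⟨hm1, hm2⟩ (t k * v))) := by
      refine pi_comm hF hO _ _ (fun m' hm' e => ?_) _ _
      have := hO.pos a ha hpa
      exact hO.lt_of_fv hm2 hm' (by omega)
    have hc3 : Commute (π (uX hF m ⟨hm1, hm2⟩ (t k * v))) (π (uX hF k ⟨hk, by omega⟩ (t k))) := by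
      refine pi_comm hF hO _ _ (fun m' hm' e => ?_) _ _
      have := hO.pos k (by omega) hk
      exact hO.lt_of_fv hm2 hm' (by omega)
    rw [← pi_add hF hO ⟨hm1, hm2⟩ (t k * v) t _ k hk hkj.le rfl, e1, uP_succ hF hk (by omega)]
    simp only [← mul_assoc]
    rw [e2]
    simp only [map_mul, map_inv, mul_assoc]
    rw [← (hc.inv_left).eq]
    calc _ = π (uX hF k ⟨hk, by omega⟩ (t k)) * ((π (uX hF a ⟨hpa, ha⟩ v) *
          π (uX hF m ⟨hm1, hm2⟩ (t k * v))) * (π (uX hF a ⟨hpa, ha⟩ v))⁻¹) *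
          π (uP hF (k + 1) (by omega) t) := by simp only [mul_assoc]
      _ = _ := by rw [hc2.eq, mul_inv_cancel_right, ← hc3.eq, mul_assoc]
  have hco := coord_eq hF hk _ _ key
  refine ⟨fun r h1 h2 => ?_, ?_⟩
  · rw [hco r h1 (by omega) (by omega), if_neg (by omega)]
  · rw [hco m hkj.le hm2 (by omega), if_pos rfl, hv, mul_div_cancel₀ _ htk, CharTwo.add_self_eq_zero]

theorem CjS.trans {H : Subgroup (GL D.Idx F)} {g h k : GL D.Idx F} (h1 : CjS H g h) (h2 : CjS H h k) :
    CjS H g k := by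
  obtain ⟨e, he, rfl⟩ := h1
  obtain ⟨e', he', rfl⟩ := h2
  exact ⟨e' * e, Subgroup.mul_mem _ he' he, by group⟩

include hO in
theorem clear_all {R : List ℕ} {k : ℕ} (hk : half D ≤ k) (hkn : k < D.nroots) {t : ℕ → F}
    (hs : SuppIn D (InS D R) k t) (htk : t k ≠ 0) : ∀ J, ∃ t',
      CjS (GS hF (InS D R) (half D)) (prodFrom hF k t) (prodFrom hF k t') ∧
      SuppIn D (InS D R) k t' ∧ t' k = t k ∧
      ∀ s, k < s → s < J → s < D.nroots → ip D k s = 1 → t' s = 0 := by
  intro J
  induction J with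
  | zero => exact ⟨t, ⟨1, Subgroup.one_mem _, by simp⟩, hs, rfl, fun s _ h => absurd h (Nat.not_lt_zero s)⟩
  | succ J ih =>
    obtain ⟨t', h1, h2, h3, h4⟩ := ih
    by_cases h : k < J ∧ J < D.nroots ∧ t' J ≠ 0 ∧ ip D k J = 1
    · obtain ⟨t'', g1, g2, g3, g4⟩ := clear_step hF hO hk h.1 h.2.1 h2 (h3 ▸ htk) h.2.2.1 h.2.2.2
      refine ⟨t'', h1.trans g1, g2, (g3 k le_rfl h.1).trans h3, fun s a b c d => ?_⟩
      rcases Nat.lt_or_eq_of_le (Nat.lt_succ_iff.1 b) with b | rfl
      · rw [g3 s a.le b]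
        exact h4 s a b c d
      · exact g4
    · refine ⟨t', h1, h2, h3, fun s a b c d => ?_⟩
      rcases Nat.lt_or_eq_of_le (Nat.lt_succ_iff.1 b) with b | rfl
      · exact h4 s a b c d
      · by_contra h0
        exact h ⟨a, c, h0, d⟩

include hO in
theorem square_clear {R : List ℕ} {k : ℕ} (hk : half D ≤ k) (hkn : k < D.nroots) {t : ℕ → F}
    (hs : SuppIn D (InS D R) k t) (htk : t k ≠ 0) (hsq : prodFrom hF k t * prodFrom hF k t = 1)
    (h1 : ∀ s, k < s → s < D.nroots → ip D k s = 1 → t s = 0) :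
    ∀ s, k < s → s < D.nroots → t s ≠ 0 → ip D k s = 0 := by
  classical
  by_contra hcon
  push Not at hcon
  have hex : ∃ s, k < s ∧ s < D.nroots ∧ t s ≠ 0 ∧ ip D k s = -1 := by
    obtain ⟨s, a, b, c, d⟩ := hcon
    refine ⟨s, a, b, c, ?_⟩
    by_contra h
    rcases (hO.none k hkn s b hk (by omega) a.ne h).2 with e | e
    · exact d e
    · exact c (h1 s a b e)
  set j := Nat.find hex with hjdef
  obtain ⟨hkj, hjn, htj, hip⟩ := Nat.find_spec hex
  rw [← hjdef] at hkj hjn htj hip
  obtain ⟨m, hm1, hm2, hm3, hm4, hm5⟩ :=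
    comm_one hF hO (r := k) (s := j) hkn hjn hk (by omega) hip (F := F)
  haveI := UN_normal hF hO (m + 1) (F := F)
  set π := QuotientGroup.mk' (UN hF (m + 1) (F := F))
  have hjm : j < m := by
    have := hO.pos k hkn hk
    exact hO.lt_of_fv hjn hm2 (by omega)
  have big : ∀ r s, k ≤ r → j ≤ s → k < r ∨ j < s → r < D.nroots → s < D.nroots →
      ∀ m', m' < D.nroots → fv D m' = fv D r + fv D s → m + 1 ≤ m' := by
    intro r s a b c hr hsn m' hm' e
    have e1 : fv D k ≤ fv D r := by
      rcases Nat.lt_or_eq_of_le a with a | rfl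
      · exact (hO.mono k hkn r hr a).le
      · exact le_rfl
    have e2 : fv D j ≤ fv D s := by
      rcases Nat.lt_or_eq_of_le b with b | h
      · exact (hO.mono j hjn s hsn b).le
      · exact h ▸ le_rfl
    have e3 : fv D k + fv D j < fv D r + fv D s := by
      rcases c with c | c
      · have := hO.mono k hkn r hr c; omega
      · have := hO.mono j hjn s hsn c; omega
    exact hO.lt_of_fv hm2 hm' (by omega)
  set A0 : ℕ → F := fun r => if r < j then t r else 0
  have hA : ∀ r, k < r → r < D.nroots → A0 r ≠ 0 → r < j ∧ InS D (k :: R) r := by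
    intro r a b c
    have hrj : r < j := by
      by_contra h
      exact c (if_neg h)
    refine ⟨hrj, ?_⟩
    simp only [A0, if_pos hrj] at c
    intro p hp
    rcases List.mem_cons.1 hp with rfl | hp
    · by_contra h
      rcases (hO.none p hkn r b hk (by omega) a.ne (fun e => Nat.find_min hex hrj ⟨a, b, c, e⟩)).2 with
        e | e
      · exact h e
      · exact c (h1 r a b e)
    · exact hs r a.le b c p hp
  set X := π (uX hF k ⟨hk, hkn⟩ (t k))
  set Y := π (uX hF j ⟨by omega, hjn⟩ (t j))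
  set A := π (uP hF (k + 1) (by omega) A0)
  set B := π (uP hF (j + 1) (by omega) t)
  set Z := π (uX hF m ⟨hm1, hm2⟩ (t k * t j))
  have eg : π (uP hF k hk t) = X * (A * (Y * B)) := by
    rw [uP_succ hF hk hkn, pi_split hF t _ (k + 1) (by omega) hkj rfl hjn.le,
      uP_succ hF (by omega) hjn, map_mul, map_mul, map_mul]
  have hXA : Commute X A := pi_commute_P hF _ _ _ _ _ rfl fun s hs' a b => by
    have e : uX hF k ⟨hk, hkn⟩ (t k) * uX hF s hs' (A0 s) = uX hF s hs' (A0 s) * uX hF k ⟨hk, hkn⟩ (t k) :=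
      Subtype.ext (commute_zero hF hO hkn hs'.2 ((hA s a hs'.2 b).2 k (List.mem_cons_self ..)) _ _).eq
    show X * _ = _ * X
    rw [← map_mul, e, map_mul]
  have hXB : Commute X B := pi_commute_P hF _ _ _ _ _ rfl fun s hs' a _ =>
    pi_comm hF hO _ _ (big k s le_rfl (by omega) (Or.inr a) hkn hs'.2) _ _
  have hAY : Commute A Y := (pi_commute_P hF _ _ _ _ _ rfl fun s hs' a _ =>
    (pi_comm hF hO _ _ (big s j (by omega) le_rfl (Or.inl a) hs'.2 hjn) _ _).symm).symm
  have hAB : Commute A B := (pi_commute_P hF _ _ _ _ _ rfl fun s hs' a _ =>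
    (pi_commute_P hF _ _ _ _ _ rfl fun r hr' b _ =>
      pi_comm hF hO _ _ (big s r (by omega) (by omega) (Or.inl a) hs'.2 hr'.2) _ _).symm).symm
  have hYB : Commute Y B := pi_commute_P hF _ _ _ _ _ rfl fun s hs' a _ =>
    pi_comm hF hO _ _ (big j s (by omega) (by omega) (Or.inl hkj) hjn hs'.2) _ _
  have hBB : B * B = 1 := by
    have key : ∀ (d i : ℕ) (hi : half D ≤ i), j < i → D.nroots - i = d →
        π (uP hF i hi t) * π (uP hF i hi t) = 1 := by
      intro d
      induction d with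
      | zero => intro i hi _ hd; rw [uP_top hF hi (by omega), map_one, one_mul]
      | succ d ih =>
        intro i hi hji hd
        rw [uP_succ hF hi (by omega), map_mul]
        have hc : Commute (π (uX hF i ⟨hi, by omega⟩ (t i))) (π (uP hF (i + 1) (by omega) t)) :=
          pi_commute_P hF _ _ _ _ _ rfl fun s hs' a _ =>
            pi_comm hF hO _ _ (big i s (by omega) (by omega) (Or.inl (by omega)) (by omega) hs'.2) _ _
        rw [hc.symm.mul_mul_mul_comm, ih (i + 1) (by omega) (by omega) (by omega), mul_one, ← map_mul,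
          uX_add, CharTwo.add_self_eq_zero, uX_zero, map_one]
    exact key _ _ _ (Nat.lt_succ_self j) rfl
  have hXX : X * X = 1 := by rw [← map_mul, uX_add, CharTwo.add_self_eq_zero, uX_zero, map_one]
  have hYY : Y * Y = 1 := by rw [← map_mul, uX_add, CharTwo.add_self_eq_zero, uX_zero, map_one]
  have hYX : Y * X = X * Y * Z := by
    have e : uX hF j ⟨by omega, hjn⟩ (t j) * uX hF k ⟨hk, hkn⟩ (t k) =
        uX hF k ⟨hk, hkn⟩ (t k) * uX hF j ⟨by omega, hjn⟩ (t j) *
          uX hF m ⟨hm1, hm2⟩ (t k * t j) := Subtype.ext (hm5 (t k) (t j))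
    show π _ * π _ = π _ * π _ * π _
    rw [← map_mul, e, map_mul, map_mul]
  have hYZ : Commute Y Z :=
    pi_comm hF hO _ _ (big j m (by omega) hjm.le (Or.inl hkj) hjn hm2) _ _
  have hAZ : Commute A Z := (pi_commute_P hF _ _ _ _ _ rfl fun s hs' a _ =>
    (pi_comm hF hO _ _ (big s m (by omega) hjm.le (Or.inl a) hs'.2 hm2) _ _).symm).symm
  have hsq' : (X * (A * (Y * B))) * (X * (A * (Y * B))) = 1 := by
    rw [← eg, ← map_mul, show uP hF k hk t * uP hF k hk t = 1 from Subtype.ext hsq, map_one]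
  have hzero : Z * (A * A) = 1 := by
    rw [← hsq']
    symm
    calc X * (A * (Y * B)) * (X * (A * (Y * B)))
        = X * A * Y * (B * X) * A * Y * B := by simp only [mul_assoc]
      _ = X * A * (Y * X) * (B * A) * Y * B := by rw [← hXB.eq]; simp only [mul_assoc]
      _ = X * A * (X * Y * Z) * A * (B * Y) * B := by rw [← hAB.eq, hYX]; simp only [mul_assoc]
      _ = X * (A * X) * Y * (Z * A) * Y * (B * B) := by rw [← hYB.eq]; simp only [mul_assoc]
      _ = (X * X) * (A * (Y * A)) * (Z * Y) := by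
          rw [hBB, mul_one, ← hXA.eq, ← hAZ.eq]; simp only [mul_assoc]
      _ = A * A * (Y * Y) * Z := by rw [hXX, one_mul, ← hAY.eq, ← hYZ.eq]; simp only [mul_assoc]
      _ = Z * (A * A) := by rw [hYY, mul_one, (hAZ.mul_left hAZ).eq]
  have hSA : SuppIn D (InS D (k :: R)) (k + 1) A0 := fun r a b c => (hA r a b c).2
  obtain ⟨u, hu, hus⟩ := exists_supp hF hO (k :: R) _ (k + 1) rfl (by omega) _
    (Subgroup.mul_mem _ (prodFrom_mem_GS hF _ _ rfl hSA) (prodFrom_mem_GS hF _ _ rfl hSA))
  have hu' : uP hF (k + 1) (by omega) A0 * uP hF (k + 1) (by omega) A0 = uP hF (k + 1) (by omega) u :=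
    Subtype.ext hu
  have e0 : uP hF (k + 1) (by omega) (fun _ => (0 : F)) = 1 := by
    refine Subtype.ext (List.prod_eq_one fun x hx => ?_)
    simp only [List.map_map, List.mem_map, Function.comp_apply] at hx
    obtain ⟨r, -, rfl⟩ := hx
    exact xG_zero hF r
  have key : π (uP hF (k + 1) (by omega) fun r => if r = m then u r + t k * t j else u r) =
      π (uP hF (k + 1) (by omega) fun _ => (0 : F)) := by
    rw [← pi_add hF hO ⟨hm1, hm2⟩ (t k * t j) u _ (k + 1) (by omega) (by omega) rfl, map_mul, ← hu',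
      map_mul, e0, map_one]
    exact hzero
  have hc := coord_eq hF (by omega) _ _ key m (by omega) hm2 (by omega)
  rw [if_pos rfl] at hc
  have hum : u m = 0 := by
    by_contra h
    have := hus m (by omega) hm2 h k (List.mem_cons_self ..)
    rw [hm4, hO.self k hkn, hip] at this
    norm_num at this
  rw [hum, zero_add] at hc
  exact mul_ne_zero htk htj hc

include hO in
/-- Involutions of `U` reduce to products over pairwise orthogonal roots. -/
theorem exists_orth : ∀ (d k : ℕ), D.nroots - k = d → half D ≤ k → ∀ (R : List ℕ) (t : ℕ → F),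
    SuppIn D (InS D R) k t → prodFrom hF k t * prodFrom hF k t = 1 →
    ∃ L : List (ℕ × F), (∀ p ∈ L, k ≤ p.1 ∧ p.1 < D.nroots ∧ InS D R p.1 ∧ p.2 ≠ 0) ∧
      L.Pairwise (fun p q => ip D p.1 q.1 = 0) ∧
      CjS (GS hF (InS D R) (half D)) (prodFrom hF k t) (wordG hF L) := by
  intro d
  induction d with
  | zero =>
    intro k hd _ R t _ _
    refine ⟨[], by simp, List.Pairwise.nil, 1, Subgroup.one_mem _, ?_⟩
    rw [prodFrom_top hF (by omega)]
    simp [wordG]
  | succ d ih =>
    intro k hd hk R t hs hsq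
    have hkn : k < D.nroots := by omega
    by_cases h0 : t k = 0
    · rw [prodFrom_succ hF hkn, h0, xG_zero, one_mul] at hsq ⊢
      obtain ⟨L, h1, h2, h3⟩ := ih (k + 1) (by omega) (by omega) R t
        (fun r a => hs r (by omega)) hsq
      exact ⟨L, fun p hp => ⟨by have := (h1 p hp).1; omega, (h1 p hp).2⟩, h2, h3⟩
    obtain ⟨t', h1, h2, h3, h4⟩ := clear_all hF hO hk hkn hs h0 D.nroots
    have hsq' : prodFrom hF k t' * prodFrom hF k t' = 1 := by
      obtain ⟨e, -, he⟩ := h1
      rw [← he, show e * prodFrom hF k t * e⁻¹ * (e * prodFrom hF k t * e⁻¹) =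
        e * (prodFrom hF k t * prodFrom hF k t) * e⁻¹ by group, hsq, mul_one, mul_inv_cancel]
    have h5 := square_clear hF hO hk hkn h2 (h3 ▸ h0) hsq' fun s a b => h4 s a b b
    have hS' : SuppIn D (InS D (k :: R)) (k + 1) t' := fun r a b c p hp => by
      rcases List.mem_cons.1 hp with rfl | hp
      · exact h5 r a b c
      · exact h2 r (by omega) b c p hp
    have hc : ∀ g ∈ GS hF (InS D (k :: R)) (half D) (F := F), Commute (xG hF k (t' k)) g := by
      intro g hg
      refine Subgroup.closure_induction ?_ (Commute.one_right _) (fun _ _ _ _ a b => a.mul_right b)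
        (fun _ _ a => a.inv_right) hg
      rintro _ ⟨r, v, -, h2, h3, rfl⟩
      exact commute_zero hF hO hkn h2 (h3 k (List.mem_cons_self ..)) _ _
    have hP := hc _ (GS_mono hF (fun _ h => h) (by omega) (prodFrom_mem_GS hF _ _ rfl hS'))
    have hsq2 : prodFrom hF (k + 1) t' * prodFrom hF (k + 1) t' = 1 := by
      rw [prodFrom_succ hF hkn, hP.symm.mul_mul_mul_comm, xG_sq_two, one_mul] at hsq'
      exact hsq'
    obtain ⟨L, g1, g2, e, he, he'⟩ := ih (k + 1) (by omega) (by omega) (k :: R) t' hS' hsq2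
    refine ⟨(k, t' k) :: L, ?_, ?_, h1.trans ⟨e, GS_mono hF
      (fun r h p hp => h p (List.mem_cons_of_mem _ hp)) le_rfl he, ?_⟩⟩
    · intro p hp
      rcases List.mem_cons.1 hp with rfl | hp
      · exact ⟨le_rfl, hkn, h2 k le_rfl hkn (h3 ▸ h0), h3 ▸ h0⟩
      · obtain ⟨a, b, c, d⟩ := g1 p hp
        exact ⟨by omega, b, fun q hq => c q (List.mem_cons_of_mem _ hq), d⟩
    · exact List.pairwise_cons.2 ⟨fun q hq => (g1 q hq).2.2.1 k (List.mem_cons_self ..), g2⟩
    · rw [wordG_cons, prodFrom_succ hF hkn, ← he']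
      simp only [← mul_assoc]
      rw [(hc e he).eq]

end OrthInvol

end Cfsg.Agent.Chev
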