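import Cfsg.Agent.Chev.OrthInvol.Main
import Cfsg.Agent.Chev.OrthInvol.RankE7
import Cfsg.Agent.Chev.All

/-! The representatives in `chevE7`. -/

set_option autoImplicit false

namespace Cfsg.Agent.Chev

open Cfsg.Lie

namespace OrthInvol

theorem e7_repData : RepData chevE7 e7Cert e7Reps e7Rank e7Ranks where
  hC := e7_checks
  hO := e7_orth
  len := rfl
  pos := by decide
  nodup := by decide
  chk := e7_rank_chk

end OrthInvol

end Cfsg.Agent.Chev
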