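import Cfsg.Agent.Chev.OrthInvol.Check
import Cfsg.Agent.Chev.Check.E8

/-! The root system checks for `chevE8`. -/

set_option autoImplicit false
set_option maxRecDepth 100000

namespace Cfsg.Agent.Chev

open Cfsg.Lie

namespace OrthInvol

theorem e8_sys : chkSys chevE8 e8Cert = true := by decide +kernel

theorem e8_orth : OrthData chevE8 := orthData e8_checks e8_sys

end OrthInvol

end Cfsg.Agent.Chev
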