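import Cfsg.Agent.Chev.OrthInvol.Classes
import Cfsg.Agent.Chev.OrthInvol.SysE6

/-! The tree of orthogonal root sets for `chevE6`. -/

set_option autoImplicit false
set_option maxRecDepth 100000

namespace Cfsg.Agent.Chev

open Cfsg.Lie

namespace OrthInvol

/-- The representatives. -/
def e6Reps : List (List ℕ) := [[71], [68, 66], [55, 65, 67]]

/-- How the nodes are settled. -/
def e6Tab : List (List ℕ × Act) := [
  ([71], .rep [] 0),
  ([71, 60], .rep [2, 3, 1] 1),
  ([71, 60, 44], .rep [0, 2, 3, 1, 0] 2),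
  ([71, 60, 44, 39], .drop [63, 51, 47, 65] [60, 44, 39])]

theorem e6_tree : chkTree chevE6 e6Cert e6Reps e6Tab 10 [] = true := by decide +kernel

end OrthInvol

end Cfsg.Agent.Chev
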